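import Cfsg.Agent.H70.Len8.Chain
import Mathlib.GroupTheory.Nilpotent
import Mathlib.GroupTheory.Commutator.Basic
import Mathlib.RingTheory.Coprime.Basic
import Mathlib.RingTheory.Coprime.Lemmas
import Mathlib.Tactic.Ring

/-!
Small 2-subgroups of `T` that are nonabelian have 2-group normalizers.
-/

set_option autoImplicit false
set_option linter.style.haveILetI false
set_option linter.unusedSectionVars false

namespace H70.Len8

open Subgroup
open scoped commutatorElement

variable {G : Type*} [Group G] [Finite G]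

theorem mem_normalizer_of {D : Subgroup G} {g : G} (h : ∀ x ∈ D, g * x * g⁻¹ ∈ D) :
    g ∈ normalizer (D : Set G) := by
  have he : D.map (MulAut.conj g).toMonoidHom = D := by
    refine eq_of_le_of_card_ge ?_ (le_of_eq (card_map_of_injective (MulAut.conj g).injective).symm)
    rintro _ ⟨x, hx, rfl⟩
    exact h x hx
  refine mem_normalizer_iff.2 fun x => ⟨h x, fun hx => ?_⟩
  rw [← he] at hx
  obtain ⟨y, hy, hyx⟩ := hx
  have hyx' : g * y * g⁻¹ = g * x * g⁻¹ := hyx
  exact mul_left_cancel (mul_right_cancel hyx') ▸ hy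

theorem conj_mem {D : Subgroup G} {g x : G} (hg : g ∈ normalizer (D : Set G)) (hx : x ∈ D) :
    g * x * g⁻¹ ∈ D :=
  (mem_normalizer_iff.1 hg x).1 hx

/-- The commutators of a nonabelian group of order at most sixteen with a central subgroup of
order four all lie in one cyclic subgroup. -/
theorem commutator_mem_zpowers {H Z : Subgroup G} (hZH : Z ≤ H)
    (hZ : ∀ x ∈ Z, ∀ h ∈ H, h * x = x * h) (hZ4 : Nat.card Z = 4)
    (hH : Nat.card H ≤ 16) (hH2 : IsPGroup 2 H) {a b : G} (ha : a ∈ H) (hb : b ∈ H)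
    (hab : a * b ≠ b * a) (hcomm : ∀ x ∈ H, ∀ y ∈ H, ⁅x, y⁆ ∈ Z) :
    ∀ x ∈ H, ∀ y ∈ H, ⁅x, y⁆ ∈ zpowers ⁅a, b⁆ := by
  haveI : Fact (Nat.Prime 2) := ⟨Nat.prime_two⟩
  set c := ⁅a, b⁆
  let M : G → Subgroup G := fun x =>
    { carrier := {y | y ∈ H ∧ (x ∈ H → ⁅x, y⁆ ∈ zpowers c)}
      one_mem' := ⟨one_mem _, fun _ => by rw [commutatorElement_one_right]; exact one_mem _⟩
      mul_mem' := fun {u v} hu hv => ⟨mul_mem hu.1 hv.1, fun hx => by
        have e : ⁅x, u * v⁆ = ⁅x, u⁆ * ⁅x, v⁆ := by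
          have hc : u * ⁅x, v⁆ = ⁅x, v⁆ * u := hZ _ (hcomm x hx v hv.1) u hu.1
          calc ⁅x, u * v⁆ = ⁅x, u⁆ * (u * ⁅x, v⁆) * u⁻¹ := by
                simp only [commutatorElement_def]; group
            _ = ⁅x, u⁆ * ⁅x, v⁆ := by rw [hc, ← mul_assoc, mul_inv_cancel_right]
        rw [e]; exact mul_mem (hu.2 hx) (hv.2 hx)⟩
      inv_mem' := fun {u} hu => ⟨inv_mem hu.1, fun hx => by
        have hc : u⁻¹ * (⁅x, u⁆)⁻¹ = (⁅x, u⁆)⁻¹ * u⁻¹ :=
          hZ _ (inv_mem (hcomm x hx u hu.1)) _ (inv_mem hu.1)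
        have e : ⁅x, u⁻¹⁆ = (⁅x, u⁆)⁻¹ := by
          calc ⁅x, u⁻¹⁆ = u⁻¹ * (⁅x, u⁆)⁻¹ * u := by simp only [commutatorElement_def]; group
            _ = (⁅x, u⁆)⁻¹ := by rw [hc, inv_mul_cancel_right]
        rw [e]; exact inv_mem (hu.2 hx)⟩ }
  have hgen : ∀ x : G, (∀ y ∈ Z, y ∈ M x) → a ∈ M x → b ∈ M x → H ≤ M x := by
    intro x hz hax hbx
    set L := Z ⊔ zpowers a ⊔ zpowers b
    have hL : L ≤ M x := sup_le (sup_le hz (zpowers_le.2 hax)) (zpowers_le.2 hbx)
    refine le_trans ?_ hL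
    have hLH : L ≤ H := sup_le (sup_le hZH (zpowers_le.2 ha)) (zpowers_le.2 hb)
    have h1 : Z < Z ⊔ zpowers a := lt_of_le_of_ne le_sup_left fun h => hab
      ((hZ a (h ▸ mem_sup_right (mem_zpowers a)) b hb).symm)
    have h2 : Z ⊔ zpowers a < L := lt_of_le_of_ne le_sup_left fun h => hab (by
      have hcent : Z ⊔ zpowers a ≤ centralizer ({a} : Set G) := sup_le
        (fun y hy => mem_centralizer_singleton_iff.2 (hZ y hy a ha).symm)
        (zpowers_le.2 (mem_centralizer_singleton_iff.2 rfl))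
      exact (mem_centralizer_singleton_iff.1 (hcent (h ▸ mem_sup_right (mem_zpowers b)))).symm)
    obtain ⟨i, hi⟩ := IsPGroup.iff_card.1 (hH2.to_le (le_trans h2.le hLH))
    obtain ⟨j, hj⟩ := IsPGroup.iff_card.1 (hH2.to_le hLH)
    obtain ⟨k, hk⟩ := IsPGroup.iff_card.1 hH2
    have hlt : ∀ {A B : Subgroup G}, A < B → Nat.card A < Nat.card B := fun h =>
      lt_of_le_of_ne (card_le_of_le h.le) fun he => h.ne (eq_of_le_of_card_ge h.le he.ge)
    have l1 := hlt h1
    have l2 := hlt h2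
    rw [hZ4, hi, show (4 : ℕ) = 2 ^ 2 by norm_num] at l1
    rw [hi, hj] at l2
    rw [hk, show (16 : ℕ) = 2 ^ 4 by norm_num] at hH
    have := (Nat.pow_lt_pow_iff_right (by norm_num)).1 l1
    have := (Nat.pow_lt_pow_iff_right (by norm_num)).1 l2
    have := (Nat.pow_le_pow_iff_right (by norm_num)).1 hH
    refine (eq_of_le_of_card_ge hLH ?_).ge
    rw [hk, hj]
    exact Nat.pow_le_pow_right (by norm_num) (by omega)
  have hzM : ∀ x : G, ∀ y ∈ Z, y ∈ M x := fun x y hy => ⟨hZH hy, fun hx => by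
    rw [(commutatorElement_eq_one_iff_mul_comm).2 (hZ y hy x hx)]; exact one_mem _⟩
  have hsymm : ∀ x y : G, ⁅x, y⁆ ∈ zpowers c → ⁅y, x⁆ ∈ zpowers c := fun x y h => by
    rw [← commutatorElement_inv]; exact inv_mem h
  have hA : H ≤ M a := hgen a (hzM a) ⟨ha, fun _ => by
    rw [(commutatorElement_eq_one_iff_mul_comm).2 rfl]; exact one_mem _⟩ ⟨hb, fun _ => mem_zpowers _⟩
  have hB : H ≤ M b := hgen b (hzM b) ⟨ha, fun _ => hsymm _ _ (mem_zpowers _)⟩ ⟨hb, fun _ => by
    rw [(commutatorElement_eq_one_iff_mul_comm).2 rfl]; exact one_mem _⟩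
  intro x hx y hy
  exact (hgen x (hzM x) ⟨ha, fun _ => hsymm _ _ ((hA hx).2 ha)⟩
    ⟨hb, fun _ => hsymm _ _ ((hB hx).2 hb)⟩ hy).2 hx

/-- A nonabelian subgroup of `T` of order at most sixteen has a 2-group normalizer. -/
theorem Ctx.normalizer_small (C : Ctx G) {H : Subgroup G} (hHT : H ≤ C.T)
    (hH : Nat.card H ≤ 16) {a b : G} (ha : a ∈ H) (hb : b ∈ H) (hab : a * b ≠ b * a)
    {z : G} (hzH : z ∈ H) (hz1 : z ≠ 1) (hzc : centralizer ({z} : Set G) = C.T) :
    IsPGroup 2 (normalizer (H : Set G)) := by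
  haveI : Fact (Nat.Prime 2) := ⟨Nat.prime_two⟩
  have hH2 : IsPGroup 2 H := C.hT.to_le hHT
  set N := normalizer (H : Set G) with hN
  let Z : Subgroup G := H ⊓ centralizer (H : Set G)
  have hZ : ∀ x ∈ Z, ∀ h ∈ H, h * x = x * h := fun x hx h hh => mem_centralizer_iff.1 hx.2 h hh
  have hZN : ∀ g ∈ N, ∀ x ∈ Z, g * x * g⁻¹ ∈ Z := fun g hg x hx => ⟨conj_mem hg hx.1,
    mem_centralizer_iff.2 fun h hh => by
      have h1 : g⁻¹ * h * g ∈ H := by simpa using conj_mem (inv_mem hg) hh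
      calc h * (g * x * g⁻¹) = g * ((g⁻¹ * h * g) * x) * g⁻¹ := by group
        _ = g * (x * (g⁻¹ * h * g)) * g⁻¹ := by rw [hZ x hx _ h1]
        _ = g * x * g⁻¹ * h := by group⟩
  have hzZ : z ∈ Z := ⟨hzH, mem_centralizer_iff.2 fun h hh =>
    mem_centralizer_singleton_iff.1 (hzc.symm ▸ hHT hh)⟩
  have hstab : ∀ g ∈ N, g * z * g⁻¹ = z → g ∈ C.T := fun g _ hg => by
    rw [← hzc, mem_centralizer_singleton_iff]
    exact mul_inv_eq_iff_eq_mul.1 hg
  obtain ⟨j, hj⟩ := IsPGroup.iff_card.1 (hH2.to_le (show Z ≤ H from inf_le_left))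
  have hlt : Nat.card Z < 8 := by
    by_contra! h8
    have hne : Z ⊔ zpowers a ≠ Z := fun h => hab
      ((hZ a (h ▸ mem_sup_right (mem_zpowers a)) b hb).symm)
    have hlt1 : Z < Z ⊔ zpowers a := lt_of_le_of_ne le_sup_left (Ne.symm hne)
    have hle : Z ⊔ zpowers a ≤ H := sup_le inf_le_left (zpowers_le.2 ha)
    have h1 : Nat.card Z < Nat.card (Z ⊔ zpowers a : Subgroup G) :=
      lt_of_le_of_ne (card_le_of_le hlt1.le) fun he => hlt1.ne (eq_of_le_of_card_ge hlt1.le he.ge)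
    obtain ⟨i, hi⟩ := IsPGroup.iff_card.1 (hH2.to_le hle)
    have h16 : 16 ≤ Nat.card (Z ⊔ zpowers a : Subgroup G) := by
      rw [hi]; rw [hj] at h8; rw [hi, hj] at h1
      have := (Nat.pow_lt_pow_iff_right (by norm_num)).1 h1
      have hj3 : 3 ≤ j := (Nat.pow_le_pow_iff_right (a := 2) (by norm_num)).1 h8
      calc 16 = 2 ^ 4 := by norm_num
        _ ≤ 2 ^ i := Nat.pow_le_pow_right (by norm_num) (by omega)
    have hb' : b ∈ Z ⊔ zpowers a := (eq_of_le_of_card_ge hle (hH.trans h16)).symm ▸ hb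
    have hcent : Z ⊔ zpowers a ≤ centralizer ({a} : Set G) := sup_le
      (fun y hy => mem_centralizer_singleton_iff.2 (hZ y hy a ha).symm)
      (zpowers_le.2 (mem_centralizer_singleton_iff.2 rfl))
    exact hab (mem_centralizer_singleton_iff.1 (hcent hb')).symm
  -- a central element fixed by the normalizer
  have hkey : ∀ g ∈ N, g * z * g⁻¹ = z ∨ Nat.card Z = 4 := by
    intro g hg
    by_cases h4 : Nat.card Z = 4
    · exact Or.inr h4
    left
    by_contra hne
    haveI : Fintype Z := Fintype.ofFinite _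
    have h2 : 2 < Nat.card Z := by
      rw [Nat.card_eq_fintype_card]
      exact Fintype.two_lt_card_iff.2 ⟨⟨1, one_mem _⟩, ⟨z, hzZ⟩, ⟨_, hZN g hg z hzZ⟩,
        fun h => hz1 (congrArg Subtype.val h).symm,
        fun h => hz1 (conj_eq_one_iff.1 (congrArg Subtype.val h).symm),
        fun h => hne (congrArg Subtype.val h).symm⟩
    rw [hj] at hlt h2 h4
    rcases j with _ | _ | _ | j
    · norm_num at h2
    · norm_num at h2
    · norm_num at h4
    · rw [pow_succ, pow_succ, pow_succ] at hlt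
      have : 0 < 2 ^ j := Nat.pow_pos (by norm_num)
      omega
  intro x
  suffices h : (x : G) * x ∈ C.T by
    obtain ⟨k, hk⟩ := C.hT ⟨_, h⟩
    refine ⟨k + 1, Subtype.ext ?_⟩
    have hk' : ((x : G) * x) ^ 2 ^ k = 1 := congrArg Subtype.val hk
    rw [SubgroupClass.coe_pow, pow_succ', pow_mul, pow_two]
    exact hk'
  rcases hkey x x.2 with h | h4
  · exact mul_mem (hstab _ x.2 h) (hstab _ x.2 h)
  refine hstab _ (mul_mem x.2 x.2) ?_
  -- the commutators generate a fixed subgroup of order two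
  have hcomm : ∀ u ∈ H, ∀ v ∈ H, ⁅u, v⁆ ∈ Z := by
    intro u hu v hv
    haveI : (Z.subgroupOf H).Normal := ⟨fun w hw h => by
      rw [mem_subgroupOf] at hw ⊢
      have := hZN h.1 (le_normalizer h.2) _ hw
      simpa using this⟩
    have hidx : (Z.subgroupOf H).index ∣ 4 := by
      have h' := (Z.subgroupOf H).card_mul_index
      rw [Nat.card_congr (subgroupOfEquivOfLe inf_le_left).toEquiv, h4] at h'
      obtain ⟨k, hk⟩ := IsPGroup.iff_card.1 hH2
      rw [hk] at h' hH
      obtain ⟨i, -, hi⟩ := (Nat.dvd_prime_pow Nat.prime_two).1 (Dvd.intro_left _ h')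
      rw [hi, show (4 : ℕ) = 2 ^ 2 by norm_num, ← pow_add] at h'
      have := Nat.pow_right_injective le_rfl h'
      have : k ≤ 4 := (Nat.pow_le_pow_iff_right (a := 2) (by norm_num)).1 (by simpa using hH)
      rw [hi, show (4 : ℕ) = 2 ^ 2 by norm_num]
      exact pow_dvd_pow 2 (by omega)
    have hab' : ∀ p q : ↥H ⧸ Z.subgroupOf H, p * q = q * p := by
      have hc : Nat.card (↥H ⧸ Z.subgroupOf H) ∣ 4 := hidx
      obtain ⟨k, hk, hkc⟩ := (Nat.dvd_prime_pow (m := 2) Nat.prime_two).1 (by norm_num; exact hc)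
      interval_cases k
      · intro p q
        haveI : Subsingleton (↥H ⧸ Z.subgroupOf H) :=
          (Nat.card_eq_one_iff_unique.1 (by rw [hkc, pow_zero])).1
        exact Subsingleton.elim _ _
      · haveI : IsCyclic (↥H ⧸ Z.subgroupOf H) := isCyclic_of_prime_card (by rw [hkc, pow_one])
        exact fun p q => IsCyclic.commutative.is_comm.comm p q
      · exact fun p q => (IsPGroup.isMulCommutative_of_card_eq_prime_sq hkc).is_comm.comm p q
    have h1 := hab' ((⟨u, hu⟩ : H) : ↥H ⧸ Z.subgroupOf H) ((⟨v, hv⟩ : H) : ↥H ⧸ Z.subgroupOf H)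
    rw [← QuotientGroup.mk_mul, ← QuotientGroup.mk_mul, QuotientGroup.eq, mem_subgroupOf] at h1
    have h2 := hZN (u * v) (le_normalizer (mul_mem hu hv)) _ (inv_mem h1)
    convert h2 using 1
    simp only [Subgroup.coe_mul, Subgroup.coe_inv, commutatorElement_def]
    group
  set c := ⁅a, b⁆ with hc
  have hc1 : c ≠ 1 := fun h => hab (commutatorElement_eq_one_iff_mul_comm.1 h)
  have hcZ : c ∈ Z := hcomm a ha b hb
  have hczp := commutator_mem_zpowers (show Z ≤ H from inf_le_left) hZ h4 hH hH2 ha hb hab hcomm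
  have hcc : c * c = 1 := by
    have h := hczp a ha (b * b) (mul_mem hb hb)
    have hcb : b * c = c * b := hZ c hcZ b hb
    have e : ⁅a, b * b⁆ = c * c := by
      calc ⁅a, b * b⁆ = c * (b * c) * b⁻¹ := by rw [hc]; simp only [commutatorElement_def]; group
        _ = c * c := by rw [hcb, ← mul_assoc, mul_inv_cancel_right]
    have hbb : b * b ∈ Z := by
      by_contra hnb
      -- then `H = Z ⊔ ⟨b⟩` would be abelian
      have hle : Z ⊔ zpowers b ≤ H := sup_le inf_le_left (zpowers_le.2 hb)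
      have h1 : Z < Z ⊔ zpowers (b * b) := lt_of_le_of_ne le_sup_left fun h' =>
        hnb (h' ▸ mem_sup_right (mem_zpowers _))
      have hm : b ^ 2 ∈ zpowers b := pow_mem (mem_zpowers b) 2
      rw [pow_two] at hm
      have h2 : Z ⊔ zpowers (b * b) ≤ Z ⊔ zpowers b := sup_le_sup_left (zpowers_le.2 hm) _
      have h3 : b ∉ Z ⊔ zpowers (b * b) := by
        intro hbm
        rw [← SetLike.mem_coe, Subgroup.coe_mul_of_right_le_normalizer_left _ _ ?_] at hbm
        · obtain ⟨w, hw, y, hy, hwy⟩ := hbm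
          obtain ⟨n, rfl⟩ := mem_zpowers_iff.1 hy
          have hwy' : w * (b * b) ^ n = b := hwy
          have hbw : w = b ^ (1 - 2 * n) := by
            rw [zpow_sub, zpow_one, zpow_mul, zpow_two]
            exact eq_mul_inv_of_mul_eq hwy'
          obtain ⟨k, hk⟩ := hH2 ⟨b, hb⟩
          have hk' : b ^ 2 ^ k = 1 := congrArg Subtype.val hk
          -- an odd power of `b` generates `⟨b⟩`
          have hcop : IsCoprime (1 - 2 * n) (((2 : ℕ) ^ k : ℕ) : ℤ) := by
            push_cast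
            exact IsCoprime.pow_right ⟨1, n, by ring⟩
          obtain ⟨p, q, hpq⟩ := hcop
          have : b = w ^ p := by
            rw [hbw, ← zpow_mul]
            calc b = b ^ ((1 - 2 * n) * p + ((2 : ℕ) ^ k : ℕ) * q) := by
                  rw [show (1 - 2 * n) * p + ((2 : ℕ) ^ k : ℕ) * q = 1 by
                    rw [mul_comm (1 - 2 * n) p, mul_comm (((2 : ℕ) ^ k : ℕ) : ℤ) q]; exact hpq, zpow_one]
              _ = b ^ ((1 - 2 * n) * p) := by
                  rw [zpow_add, zpow_mul b (((2 : ℕ) ^ k : ℕ) : ℤ) q, zpow_natCast, hk', one_zpow, mul_one]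
          exact hab (hZ b (this ▸ zpow_mem hw p) a ha)
        · exact fun y hy => mem_normalizer_of fun w hw => by
            have hyH : y ∈ H := zpowers_le.2 (mul_mem hb hb) hy
            rw [hZ w hw y hyH, mul_inv_cancel_right]
            exact hw
      have h3' : Z ⊔ zpowers (b * b) < Z ⊔ zpowers b := lt_of_le_of_ne h2 fun he =>
        h3 (he ▸ mem_sup_right (mem_zpowers b))
      obtain ⟨i, hi⟩ := IsPGroup.iff_card.1 (hH2.to_le (h3'.le.trans hle))
      obtain ⟨l, hl⟩ := IsPGroup.iff_card.1 (hH2.to_le hle)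
      have hlt' : ∀ {A B : Subgroup G}, A < B → Nat.card A < Nat.card B := fun h =>
        lt_of_le_of_ne (card_le_of_le h.le) fun he => h.ne (eq_of_le_of_card_ge h.le he.ge)
      have l1 := hlt' h1
      have l2 := hlt' h3'
      rw [h4, hi, show (4 : ℕ) = 2 ^ 2 by norm_num] at l1
      rw [hi, hl] at l2
      have := (Nat.pow_lt_pow_iff_right (by norm_num)).1 l1
      have := (Nat.pow_lt_pow_iff_right (by norm_num)).1 l2
      have hba : a ∈ Z ⊔ zpowers b := (eq_of_le_of_card_ge hle (hH.trans (by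
        rw [hl]
        calc 16 = 2 ^ 4 := by norm_num
          _ ≤ 2 ^ l := Nat.pow_le_pow_right (by norm_num) (by omega)))).symm ▸ ha
      have hcent : Z ⊔ zpowers b ≤ centralizer ({b} : Set G) := sup_le
        (fun y hy => mem_centralizer_singleton_iff.2 (hZ y hy b hb).symm)
        (zpowers_le.2 (mem_centralizer_singleton_iff.2 rfl))
      exact hab (mem_centralizer_singleton_iff.1 (hcent hba))
    rw [← e]
    exact commutatorElement_eq_one_iff_mul_comm.2 (hZ _ hbb a ha)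
  have hfix : ∀ g ∈ N, g * c * g⁻¹ = c := by
    intro g hg
    have h := hczp _ (conj_mem hg ha) _ (conj_mem hg hb)
    have e : ⁅g * a * g⁻¹, g * b * g⁻¹⁆ = g * c * g⁻¹ := by
      rw [hc]; simp only [commutatorElement_def]; group
    rw [e] at h
    obtain ⟨n, hn⟩ := mem_zpowers_iff.1 h
    rcases Int.even_or_odd' n with ⟨k, rfl | rfl⟩
    · rw [zpow_mul, zpow_two, hcc, one_zpow] at hn
      exact absurd (conj_eq_one_iff.1 hn.symm) hc1
    · rw [zpow_add, zpow_mul, zpow_two, hcc, one_zpow, one_mul, zpow_one] at hn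
      exact hn.symm
  by_cases hzc' : z = c
  · rw [hzc']; exact hfix _ (mul_mem x.2 x.2)
  -- the orbit of `z` lies among two elements
  by_contra hne
  have hx1 : (x : G) * z * (x : G)⁻¹ ≠ z := fun h => hne (by
    calc (x : G) * x * z * ((x : G) * x)⁻¹ = x * (x * z * (x : G)⁻¹) * (x : G)⁻¹ := by group
      _ = z := by rw [h, h])
  haveI : Fintype Z := Fintype.ofFinite _
  let f : Fin 5 → Z := ![⟨1, one_mem _⟩, ⟨c, hcZ⟩, ⟨z, hzZ⟩, ⟨_, hZN _ x.2 z hzZ⟩,
    ⟨_, hZN _ (mul_mem x.2 x.2) z hzZ⟩]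
  rw [Nat.card_eq_fintype_card] at h4
  obtain ⟨i, k, hik, hf⟩ := Fintype.exists_ne_map_eq_of_card_lt f (by
    rw [Fintype.card_fin, h4]; norm_num)
  have hf' := congrArg Subtype.val hf
  have n1 : (x : G) * z * (x : G)⁻¹ ≠ c := fun h => hzc' (by
    have h' := h.trans (hfix _ x.2).symm
    exact mul_left_cancel (mul_right_cancel h'))
  have n2 : (x : G) * x * z * ((x : G) * x)⁻¹ ≠ c := fun h => hzc' (by
    have h' := h.trans (hfix _ (mul_mem x.2 x.2)).symm
    exact mul_left_cancel (mul_right_cancel h'))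
  have n3 : (x : G) * z * (x : G)⁻¹ ≠ 1 := fun h => hz1 (conj_eq_one_iff.1 h)
  have n4 : (x : G) * x * z * ((x : G) * x)⁻¹ ≠ 1 := fun h => hz1 (conj_eq_one_iff.1 h)
  have n5 : (x : G) * x * z * ((x : G) * x)⁻¹ ≠ (x : G) * z * (x : G)⁻¹ := fun h => hx1 (by
    have h' : (x : G) * (x * z * (x : G)⁻¹) * (x : G)⁻¹ = x * z * (x : G)⁻¹ :=
      (show (x : G) * (x * z * (x : G)⁻¹) * (x : G)⁻¹ = x * x * z * ((x : G) * x)⁻¹ by group).trans h
    exact mul_left_cancel (mul_right_cancel h'))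
  fin_cases i <;> fin_cases k <;>
    first
    | exact hik rfl
    | exact hc1 hf' | exact hc1 hf'.symm | exact hz1 hf' | exact hz1 hf'.symm
    | exact n1 hf' | exact n1 hf'.symm | exact n2 hf' | exact n2 hf'.symm
    | exact n3 hf' | exact n3 hf'.symm | exact n4 hf' | exact n4 hf'.symm
    | exact n5 hf' | exact n5 hf'.symm | exact hzc' hf' | exact hzc' hf'.symm
    | exact hx1 hf' | exact hx1 hf'.symm | exact hne hf' | exact hne hf'.symm

end H70.Len8
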