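import Mathlib.GroupTheory.PGroup
import Mathlib.GroupTheory.Index
import Mathlib.GroupTheory.IndexNormal
import Mathlib.Dynamics.PeriodicPts.Lemmas
import Cfsg.Agent.H65.BrauerFowler

/-!
A group of automorphisms of an abelian 2-group of twice odd order whose involution is a
transvection with trivial odd centraliser has order six.
-/

set_option autoImplicit false
set_option linter.style.haveILetI false
set_option linter.unusedSectionVars false

namespace H70.Len8

open Subgroup

variable {D : Type*} [CommGroup D] [Finite D]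

theorem eq_one_of_odd_pow (h2 : IsPGroup 2 D) {c : D} {n : ℕ} (hn : Odd n) (hc : c ^ n = 1) :
    c = 1 := by
  obtain ⟨k, hk⟩ := h2 c
  have h := Nat.dvd_gcd (orderOf_dvd_of_pow_eq_one hc) (orderOf_dvd_of_pow_eq_one hk)
  rw [(Nat.coprime_two_right.2 hn).pow_right k] at h
  exact orderOf_eq_one_iff.1 (Nat.dvd_one.1 h)

/-- An automorphism of odd order fixing a subgroup of index at most four cubes to one. -/
theorem pow_three_eq_one (h2 : IsPGroup 2 D) {ρ : MulAut D} (hodd : Odd (orderOf ρ))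
    (K : Subgroup D) (hK : ∀ d ∈ K, ρ d = d) (hKi : K.index ≤ 4) : ρ ^ 3 = 1 := by
  classical
  haveI : Fintype (D ⧸ K) := Fintype.ofFinite _
  let f : D ⧸ K → D ⧸ K := Quotient.map' (fun d => ρ d) fun a b hab => by
    rw [QuotientGroup.leftRel_apply] at hab ⊢
    rw [← map_inv, ← map_mul, hK _ hab]
    exact hab
  have hf : ∀ (k : ℕ) (d : D), f^[k] (d : D ⧸ K) = (((ρ ^ k) d : D) : D ⧸ K) := by
    intro k
    induction k with
    | zero => intro d; rfl
    | succ k ih => intro d; rw [Function.iterate_succ_apply', ih, pow_succ', MulAut.mul_apply]; rfl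
  have hone : f (1 : D ⧸ K) = 1 := by
    rw [← QuotientGroup.mk_one]
    show ((ρ 1 : D) : D ⧸ K) = _
    rw [map_one]
  have hinj : Function.Injective f := by
    intro x y hxy
    induction x using QuotientGroup.induction_on with | _ a =>
    induction y using QuotientGroup.induction_on with | _ b =>
    rw [QuotientGroup.eq]
    have h := QuotientGroup.eq.1 hxy
    rw [← map_inv, ← map_mul] at h
    have h' := hK _ h
    rw [ρ.injective h'] at h
    exact h
  have hper : ∀ x : D ⧸ K, Function.IsPeriodicPt f 6 x := by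
    intro x
    by_cases hx : x = 1
    · subst hx; exact Function.IsFixedPt.iterate hone 6
    let g : Fin 4 → {y : D ⧸ K // y ≠ 1} := fun i => ⟨f^[(i : ℕ)] x, fun h => hx
      (hinj.iterate i (h.trans (Function.IsFixedPt.iterate hone i).symm))⟩
    obtain ⟨i, j, hij, hg⟩ := Fintype.exists_ne_map_eq_of_card_lt g (by
      rw [Fintype.card_fin, Fintype.card_subtype_compl, Fintype.card_subtype_eq,
        ← Nat.card_eq_fintype_card]
      have : Nat.card (D ⧸ K) ≤ 4 := hKi
      omega)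
    have hg' : f^[(i : ℕ)] x = f^[(j : ℕ)] x := congrArg Subtype.val hg
    wlog hlt : (i : ℕ) < j generalizing i j
    · exact this j i (Ne.symm hij) hg.symm hg'.symm (by
        have : (i : ℕ) ≠ j := fun h => hij (Fin.ext h)
        omega)
    have hp : Function.IsPeriodicPt f (j - i) x := by
      refine hinj.iterate i ?_
      rw [← Function.iterate_add_apply, show (i : ℕ) + (j - i) = j by omega]
      exact hg'.symm
    exact hp.trans_dvd (by have := j.2; have : (j : ℕ) - i ∈ ({1, 2, 3} : Finset ℕ) := by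
                             simp only [Finset.mem_insert, Finset.mem_singleton]; omega
                           simp only [Finset.mem_insert, Finset.mem_singleton] at this
                           rcases this with h | h | h <;> rw [h] <;> norm_num)
  refine MulEquiv.ext fun d => ?_
  have hn : Function.IsPeriodicPt f (orderOf ρ) (d : D ⧸ K) := by
    show f^[orderOf ρ] _ = _
    rw [hf, pow_orderOf_eq_one]; rfl
  have h3 : Function.IsPeriodicPt f 3 (d : D ⧸ K) := by
    refine ((hper _).gcd hn).trans_dvd ?_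
    have hd6 : Nat.gcd 6 (orderOf ρ) ∣ 3 := by
      have hc : Nat.Coprime (Nat.gcd 6 (orderOf ρ)) 2 :=
        Nat.Coprime.coprime_dvd_left (Nat.gcd_dvd_right _ _) (Nat.coprime_two_right.2 hodd)
      exact hc.dvd_of_dvd_mul_left (show Nat.gcd 6 (orderOf ρ) ∣ 2 * 3 from Nat.gcd_dvd_left _ _)
    exact hd6
  have h3' : ((((ρ ^ 3) d : D)) : D ⧸ K) = (d : D ⧸ K) := (hf 3 d).symm.trans h3
  have hcK : d⁻¹ * (ρ ^ 3) d ∈ K := QuotientGroup.eq.1 h3'.symm
  set c := d⁻¹ * (ρ ^ 3) d with hc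
  have hfix : ∀ k : ℕ, (ρ ^ k) c = c := by
    intro k
    induction k with
    | zero => rfl
    | succ k ih => rw [pow_succ, MulAut.mul_apply, hK _ hcK, ih]
  have hiter : ∀ k : ℕ, (ρ ^ (3 * k)) d = d * c ^ k := by
    intro k
    induction k with
    | zero => simp
    | succ k ih =>
      have e3 : (ρ ^ 3) d = d * c := (mul_inv_cancel_left d _).symm
      rw [show 3 * (k + 1) = 3 + 3 * k by ring, pow_add, MulAut.mul_apply, ih, map_mul, map_pow,
        hfix 3, e3, pow_succ' c, mul_assoc]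
  have hcn : c ^ orderOf ρ = 1 := by
    have := hiter (orderOf ρ)
    rw [mul_comm 3, pow_mul, pow_orderOf_eq_one, one_pow] at this
    exact mul_left_cancel (this.symm.trans (mul_one d).symm)
  have hc1 := eq_one_of_odd_pow h2 hodd hcn
  rw [hc, inv_mul_eq_one] at hc1
  exact hc1.symm

theorem reflect (h2 : IsPGroup 2 D) (A : Subgroup (MulAut D)) (v : MulAut D) (hvA : v ∈ A)
    (hv : v * v = 1) (hv1 : v ≠ 1) {m : ℕ} (hm : Odd m) (hm1 : m ≠ 1) (hcard : Nat.card A = 2 * m)
    (hcent : ∀ a ∈ A, a * v = v * a → a = 1 ∨ a = v)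
    (D₀ : Subgroup D) (hD₀ : ∀ d ∈ D₀, v d = d) (hi : D₀.index = 2) :
    ∃ w : D, w ∉ D₀ ∧ w * w = 1 ∧ w⁻¹ * v w ≠ 1 ∧ (∀ d : D, d * d ≠ w⁻¹ * v w) ∧
      ∀ a ∈ A, ∀ d : D, d⁻¹ * a d ∈ closure ({w, w⁻¹ * v w} : Set D) := by
  classical
  haveI : Finite A := Nat.finite_of_card_ne_zero (by rw [hcard]; obtain ⟨k, rfl⟩ := hm; omega)
  obtain ⟨K', hK'⟩ := H65.exists_index_two_of_card_mod_four (G := A) (by
    obtain ⟨k, rfl⟩ := hm; omega)
  set K := K'.map A.subtype with hKdef
  have hKA : K ≤ A := map_subtype_le K'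
  have hKc : Nat.card K = m := by
    rw [hKdef, card_map_of_injective A.subtype_injective]
    have h := K'.card_mul_index
    rw [hK', hcard] at h
    omega
  have hord : ∀ k ∈ K, Odd (orderOf k) := fun k hk =>
    hm.of_dvd_nat (hKc ▸ Subgroup.orderOf_dvd_natCard K hk)
  have hvK : v ∉ K := fun h => by
    have h2' : orderOf v = 2 := orderOf_eq_prime (by rw [pow_two, hv]) hv1
    have := hord v h
    rw [h2'] at this
    exact absurd this (by decide)
  haveI hK'n : K'.Normal := Subgroup.normal_of_index_eq_two hK'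
  have hconj : ∀ k ∈ K, ∀ a ∈ A, a * k * a⁻¹ ∈ K := by
    rintro _ ⟨k, hk, rfl⟩ a ha
    exact ⟨⟨a, ha⟩ * k * ⟨a, ha⟩⁻¹, hK'n.conj_mem k hk _, rfl⟩
  have hvi : v⁻¹ = v := inv_eq_of_mul_eq_one_right hv
  -- every element of `K` is inverted and is a product of two transvections
  let f : K → K := fun k => ⟨(k : MulAut D)⁻¹ * (v * k * v), mul_mem (inv_mem k.2) (by
    have := hconj k k.2 v hvA; rwa [hvi] at this)⟩
  have hfinj : Function.Injective f := by
    intro k l h
    have h' : (k : MulAut D)⁻¹ * (v * k * v) = (l : MulAut D)⁻¹ * (v * l * v) :=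
      congrArg Subtype.val h
    have hc : ((l : MulAut D) * (k : MulAut D)⁻¹) * v = v * ((l : MulAut D) * (k : MulAut D)⁻¹) := by
      calc (l : MulAut D) * (k : MulAut D)⁻¹ * v
          = (l : MulAut D) * ((k : MulAut D)⁻¹ * (v * k * v)) * (v⁻¹ * (k : MulAut D)⁻¹) := by group
        _ = (l : MulAut D) * ((l : MulAut D)⁻¹ * (v * l * v)) * (v⁻¹ * (k : MulAut D)⁻¹) := by rw [h']
        _ = v * ((l : MulAut D) * (k : MulAut D)⁻¹) := by group
    rcases hcent _ (hKA (mul_mem l.2 (inv_mem k.2))) hc with h1 | h1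
    · exact Subtype.ext (mul_inv_eq_one.1 h1).symm
    · exact absurd (h1 ▸ mul_mem l.2 (inv_mem k.2)) hvK
  have hrepr : ∀ k ∈ K, ∃ l ∈ K, k = l⁻¹ * v * l * v := by
    intro k hk
    obtain ⟨l, hl⟩ := Finite.surjective_of_injective hfinj ⟨k, hk⟩
    refine ⟨l, l.2, ?_⟩
    have e : (l : MulAut D)⁻¹ * (v * l * v) = k := congrArg Subtype.val hl
    rw [← e]
    simp only [mul_assoc]
  have hinvert : ∀ k ∈ K, v * k * v = k⁻¹ := by
    intro k hk
    obtain ⟨l, -, rfl⟩ := hrepr k hk
    simp only [mul_inv_rev, inv_inv, hvi, mul_assoc, hv, mul_one]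
  have hcomm : ∀ k ∈ K, ∀ l ∈ K, k * l = l * k := by
    intro k hk l hl
    have h := hinvert _ (mul_mem hk hl)
    rw [show v * (k * l) * v = (v * k * v) * (v * l * v) by
      simp only [mul_assoc]; rw [← mul_assoc v v, hv, one_mul],
      hinvert k hk, hinvert l hl, ← mul_inv_rev, inv_inj] at h
    exact h.symm
  have h3 : ∀ k ∈ K, k ^ 3 = 1 := by
    intro k hk
    obtain ⟨l, hl, hkl⟩ := hrepr k hk
    refine pow_three_eq_one h2 (hord k hk) (D₀ ⊓ D₀.comap l.toMonoidHom) ?_ ?_
    · intro d hd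
      have h0 : v d = d := hD₀ d hd.1
      have h1 : v (l d) = l d := hD₀ _ hd.2
      rw [hkl, MulAut.mul_apply, h0, MulAut.mul_apply, MulAut.mul_apply, h1, MulAut.inv_apply_self]
    · calc (D₀ ⊓ D₀.comap l.toMonoidHom).index
          ≤ D₀.index * (D₀.comap l.toMonoidHom).index := Subgroup.index_inf_le
        _ = 4 := by rw [index_comap_of_surjective _ l.surjective, hi]
  have hfour : ∀ k ∈ K, ∃ M : Subgroup D, M.index ≤ 4 ∧ ∀ d ∈ M, k d = d := by
    intro k hk
    obtain ⟨l, hl, hkl⟩ := hrepr k hk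
    refine ⟨D₀ ⊓ D₀.comap l.toMonoidHom, ?_, ?_⟩
    · calc (D₀ ⊓ D₀.comap l.toMonoidHom).index
          ≤ D₀.index * (D₀.comap l.toMonoidHom).index := Subgroup.index_inf_le
        _ = 4 := by rw [index_comap_of_surjective _ l.surjective, hi]
    · intro d hd
      have h0 : v d = d := hD₀ d hd.1
      have h1 : v (l d) = l d := hD₀ _ hd.2
      rw [hkl, MulAut.mul_apply, h0, MulAut.mul_apply, MulAut.mul_apply, h1, MulAut.inv_apply_self]
  -- the displacement of `v` is constant
  obtain ⟨d₁, -, hd₁⟩ := SetLike.exists_of_lt (lt_top_iff_ne_top.2 (show D₀ ≠ ⊤ from fun h => by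
    rw [h, index_top] at hi; omega))
  have hvdisp : ∀ d ∉ D₀, d⁻¹ * v d = d₁⁻¹ * v d₁ := by
    intro d hd
    have h := (mul_mem_iff_of_index_two hi (a := d₁⁻¹) (b := d)).2 (iff_of_false (by simpa using hd₁) hd)
    have hcc := hD₀ _ h
    rw [map_mul, map_inv] at hcc
    rw [inv_mul_eq_iff_eq_mul] at hcc
    rw [hcc]
    calc d⁻¹ * (v d₁ * (d₁⁻¹ * d)) = v d₁ * d₁⁻¹ * (d⁻¹ * d) := by
          simp only [mul_comm, mul_left_comm, mul_assoc]
      _ = d₁⁻¹ * v d₁ := by rw [inv_mul_cancel, mul_one, mul_comm]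
  -- displacement homomorphisms
  let δ : MulAut D → (D →* D) := fun k =>
    { toFun := fun d => d⁻¹ * k d
      map_one' := by simp
      map_mul' := fun a b => by
        rw [mul_inv_rev, map_mul]
        simp only [mul_comm, mul_left_comm, mul_assoc] }
  have hfpf : ∀ k ∈ K, ∀ x ∈ (δ k).range, k x = x → x = 1 := by
    rintro k hk _ ⟨d, rfl⟩ hx
    set x := (δ k) d with hxd
    have e1 : k d = d * x := (mul_inv_cancel_left d (k d)).symm
    have e3 : (k ^ 3) d = d * x ^ 3 := by
      rw [pow_succ, pow_succ, pow_one, MulAut.mul_apply, MulAut.mul_apply, e1, map_mul, e1, hx,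
        map_mul, map_mul, e1, hx, pow_succ, pow_succ, pow_one]
      simp only [mul_assoc]
    rw [h3 k hk] at e3
    exact eq_one_of_odd_pow h2 (by decide : Odd 3) (mul_left_cancel (e3.symm.trans (mul_one d).symm))
  have hrinv : ∀ k ∈ K, ∀ x ∈ (δ k).range, k x ∈ (δ k).range := by
    rintro k hk _ ⟨d, rfl⟩
    exact ⟨k d, by show _ = k (d⁻¹ * k d); rw [map_mul, map_inv]; rfl⟩
  have hWcard : ∀ k ∈ K, k ≠ 1 → Nat.card (δ k).range = 4 := by
    intro k hk hk1
    obtain ⟨M, hM4, hMfix⟩ := hfour k hk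
    have hle : Nat.card (δ k).range ≤ 4 := by
      rw [← Subgroup.index_ker]
      refine le_trans (Nat.le_of_dvd ?_ (index_dvd_of_le ?_)) hM4
      · exact Nat.pos_of_ne_zero index_ne_zero_of_finite
      · intro d hd
        show d⁻¹ * k d = 1
        rw [hMfix d hd, inv_mul_cancel]
    obtain ⟨j, hj⟩ := IsPGroup.iff_card.1 (h2.to_subgroup (δ k).range)
    have hne : ¬ Nat.card (δ k).range ≤ 2 := by
      intro hle2
      obtain ⟨d, hd⟩ := not_forall.1 (fun h : ∀ d, k d = d => hk1 (MulEquiv.ext h))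
      have hx1 : (δ k) d ≠ 1 := fun h => hd (inv_mul_eq_one.1 h).symm
      have hx : (δ k) d ∈ (δ k).range := ⟨d, rfl⟩
      refine hx1 (hfpf k hk _ hx ?_)
      haveI : Fintype (δ k).range := Fintype.ofFinite _
      by_contra hkx
      have hkx1 : k ((δ k) d) ≠ 1 := fun h => hx1 (k.injective (h.trans (map_one k).symm))
      have : 2 < Fintype.card (δ k).range := Fintype.two_lt_card_iff.2
        ⟨⟨_, one_mem _⟩, ⟨_, hx⟩, ⟨_, hrinv k hk _ hx⟩, fun h => hx1 (congrArg Subtype.val h).symm,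
          fun h => hkx1 (congrArg Subtype.val h).symm, fun h => hkx (congrArg Subtype.val h).symm⟩
      rw [Nat.card_eq_fintype_card] at hle2
      omega
    rw [hj] at hle hne ⊢
    rcases j with _ | _ | _ | j
    · norm_num at hne
    · norm_num at hne
    · rfl
    · exfalso; rw [pow_succ, pow_succ, pow_succ] at hle
      have : 0 < 2 ^ j := Nat.pow_pos (by norm_num)
      omega
  have hsq : ∀ k ∈ K, ∀ x ∈ (δ k).range, x * x = 1 := by
    intro k hk x hx
    by_cases hk1 : k = 1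
    · subst hk1
      obtain ⟨d, rfl⟩ := hx
      show d⁻¹ * d * (d⁻¹ * d) = 1
      simp
    by_contra hxx
    set W := (δ k).range
    let s : W →* W := powMonoidHom 2
    have hmem : x * x ∈ W := mul_mem hx hx
    have hsurj : Function.Surjective s := by
      haveI : Fintype W := Fintype.ofFinite _
      have hks : ∀ y : W, y ∈ s.range → (⟨k y, hrinv k hk _ y.2⟩ : W) ∈ s.range := by
        rintro _ ⟨z, rfl⟩
        exact ⟨⟨k z, hrinv k hk _ z.2⟩, Subtype.ext (map_pow k (z : D) 2).symm⟩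
      have h1 : (⟨x * x, hmem⟩ : W) ∈ s.range := ⟨⟨x, hx⟩, Subtype.ext (pow_two x)⟩
      have h2' := hks _ h1
      have ha : (x * x : D) ≠ k (x * x) := fun h => hxx (hfpf k hk _ hmem h.symm)
      have hb : k (x * x) ≠ 1 := fun h => hxx (k.injective (h.trans (map_one k).symm))
      haveI : Fintype s.range := Fintype.ofFinite _
      have h3' : 2 < Fintype.card s.range := Fintype.two_lt_card_iff.2
        ⟨⟨1, one_mem _⟩, ⟨_, h1⟩, ⟨_, h2'⟩,
          fun h => hxx (congrArg (fun y : s.range => ((y : W) : D)) h).symm,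
          fun h => hb (congrArg (fun y : s.range => ((y : W) : D)) h).symm,
          fun h => ha (congrArg (fun y : s.range => ((y : W) : D)) h)⟩
      have h4 : Nat.card s.range ∣ 4 := hWcard k hk hk1 ▸ card_subgroup_dvd_card _
      rw [Nat.card_eq_fintype_card] at h4
      have h5 : Fintype.card s.range = 4 := by
        have := Nat.le_of_dvd (by norm_num) h4
        interval_cases (Fintype.card s.range) <;> norm_num at *
      exact MonoidHom.range_eq_top.1 (eq_top_of_card_eq _ (by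
        rw [Nat.card_eq_fintype_card, h5, hWcard k hk hk1]))
    have hinj := Finite.injective_iff_surjective.2 hsurj
    obtain ⟨y, hy⟩ := exists_prime_orderOf_dvd_card' (G := W) 2 (by rw [hWcard k hk hk1]; norm_num)
    have : s y = s 1 := by
      show y ^ 2 = (1 : W) ^ 2
      rw [one_pow, ← hy, pow_orderOf_eq_one]
    rw [hinj this, orderOf_one] at hy
    omega
  have hvW : ∀ k ∈ K, ∀ x ∈ (δ k).range, v x ∈ (δ k).range := by
    rintro k hk _ ⟨d, rfl⟩
    have e : v (k d) = k⁻¹ (v d) := by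
      have h1 : v (v d) = d := by rw [← MulAut.mul_apply, hv]; rfl
      rw [← hinvert k hk]
      show _ = v (k (v (v d)))
      rw [h1]
    refine ⟨k⁻¹ (v d⁻¹), ?_⟩
    show (k⁻¹ (v d⁻¹))⁻¹ * k (k⁻¹ (v d⁻¹)) = v (d⁻¹ * k d)
    rw [MulAut.apply_inv_self, map_mul, e, ← map_inv, ← map_inv, inv_inv, mul_comm]
  have hmove : ∀ k ∈ K, k ≠ 1 → ∃ x ∈ (δ k).range, v x ≠ x := by
    intro k hk hk1
    by_contra! hall
    obtain ⟨d, hd⟩ := not_forall.1 (fun h : ∀ d, k d = d => hk1 (MulEquiv.ext h))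
    have hx1 : (δ k) d ≠ 1 := fun h => hd (inv_mul_eq_one.1 h).symm
    have hx : (δ k) d ∈ (δ k).range := ⟨d, rfl⟩
    refine hx1 (hfpf k hk _ hx ?_)
    set x := (δ k) d
    have e1 : k⁻¹ x = k x := by
      rw [← hinvert k hk, MulAut.mul_apply, MulAut.mul_apply, hall x hx, hall _ (hrinv k hk x hx)]
    have e2 : (k ^ 2) x = x := by rw [pow_two, MulAut.mul_apply, ← e1, MulAut.apply_inv_self]
    have e3 : (k ^ 3) x = x := by rw [h3 k hk]; rfl
    rw [pow_succ', MulAut.mul_apply, e2] at e3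
    exact e3
  set w₀ := d₁⁻¹ * v d₁ with hw₀
  have hw₀1 : w₀ ≠ 1 := by
    intro h
    refine hv1 (MulEquiv.ext fun d => ?_)
    by_cases hd : d ∈ D₀
    · exact hD₀ d hd
    · have := hvdisp d hd
      rw [h] at this
      exact (inv_mul_eq_one.1 this).symm
  have hw₀W : ∀ k ∈ K, k ≠ 1 → w₀ ∈ (δ k).range := by
    intro k hk hk1
    obtain ⟨x, hx, hvx⟩ := hmove k hk hk1
    rw [← hvdisp x fun h => hvx (hD₀ x h)]
    exact mul_mem (inv_mem hx) (hvW k hk x hx)
  obtain ⟨ρ, hρK, hρ1⟩ : ∃ ρ ∈ K, ρ ≠ 1 := by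
    by_contra! h
    rw [(eq_bot_iff_forall _).2 h, card_bot] at hKc
    exact hm1 hKc.symm
  obtain ⟨w, hw, hvw⟩ := hmove ρ hρK hρ1
  have hwD : w ∉ D₀ := fun h => hvw (hD₀ w h)
  have hww : w⁻¹ * v w = w₀ := hvdisp w hwD
  refine ⟨w, hwD, hsq ρ hρK w hw, ?_⟩
  rw [hww]
  refine ⟨hw₀1, ?_, ?_⟩
  · intro d hd
    have h1 := hsq ρ hρK _ ⟨d, rfl⟩
    rw [← map_mul, hd] at h1
    exact hw₀1 (hfpf ρ hρK _ (hw₀W ρ hρK hρ1) (inv_mul_eq_one.1 h1).symm)
  -- the displacements
  have hclos : (δ ρ).range = closure ({w, w₀} : Set D) := by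
    refine (eq_of_le_of_card_ge ((closure_le _).2 ?_) ?_).symm
    · rintro y (rfl | rfl)
      · exact hw
      · exact hw₀W ρ hρK hρ1
    · rw [hWcard ρ hρK hρ1]
      have h1 : w₀ ≠ w := fun h => by
        have hm' : v w = w * w := by rw [← inv_mul_eq_iff_eq_mul, hww, h]
        rw [hsq ρ hρK w hw] at hm'
        have : w = 1 := v.injective (hm'.trans (map_one v).symm)
        exact hwD (this ▸ one_mem _)
      have hw1 : w ≠ 1 := fun h => hwD (h ▸ one_mem _)
      have hm1' : w ∈ closure ({w, w₀} : Set D) := subset_closure (Or.inl rfl)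
      have hm2' : w₀ ∈ closure ({w, w₀} : Set D) := subset_closure (Or.inr rfl)
      haveI : Fintype (closure ({w, w₀} : Set D)) := Fintype.ofFinite _
      rw [Nat.card_eq_fintype_card]
      obtain ⟨j, hj⟩ := IsPGroup.iff_card.1 (h2.to_subgroup (closure ({w, w₀} : Set D)))
      rw [Nat.card_eq_fintype_card] at hj
      have : 2 < Fintype.card (closure ({w, w₀} : Set D)) := Fintype.two_lt_card_iff.2
        ⟨⟨1, one_mem _⟩, ⟨_, hm1'⟩, ⟨_, hm2'⟩, fun h => hw1 (congrArg Subtype.val h).symm,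
          fun h => hw₀1 (congrArg Subtype.val h).symm, fun h => h1 (congrArg Subtype.val h).symm⟩
      rw [hj] at this ⊢
      exact Nat.pow_le_pow_right (n := 2) (i := 2) (by norm_num) (by
        by_contra! hj2
        have := Nat.pow_le_pow_right (n := 2) (by norm_num) (Nat.lt_succ_iff.1 hj2)
        omega)
  rw [← hclos]
  have hKdisp : ∀ k ∈ K, ∀ d : D, d⁻¹ * k d ∈ (δ ρ).range := by
    intro k hk d
    have hcase : k = 1 ∨ k = ρ ∨ k = ρ ^ 2 := by
      have hkW : k w₀ ∈ (δ ρ).range := by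
        obtain ⟨e, he⟩ := hw₀W ρ hρK hρ1
        refine ⟨k e, ?_⟩
        rw [← he]
        show (k e)⁻¹ * ρ (k e) = k (e⁻¹ * ρ e)
        rw [map_mul, map_inv, ← MulAut.mul_apply, hcomm ρ hρK k hk, MulAut.mul_apply]
      have hfix : ∀ l ∈ K, l w₀ = w₀ → l = 1 := fun l hl h => by
        by_contra hl1
        exact hw₀1 (hfpf l hl _ (hw₀W l hl hl1) h)
      have hne : ∀ y ∈ (δ ρ).range, y ≠ 1 → y = w₀ ∨ y = ρ w₀ ∨ y = (ρ ^ 2) w₀ := by
        intro y hy hy1
        by_contra! hno
        haveI : Fintype (δ ρ).range := Fintype.ofFinite _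
        have ha := hw₀W ρ hρK hρ1
        have hb := hrinv ρ hρK _ ha
        have hc : (ρ ^ 2) w₀ ∈ (δ ρ).range := by
          rw [pow_two, MulAut.mul_apply]; exact hrinv ρ hρK _ hb
        let g : Fin 5 → (δ ρ).range :=
          ![⟨1, one_mem _⟩, ⟨w₀, ha⟩, ⟨ρ w₀, hb⟩, ⟨_, hc⟩, ⟨y, hy⟩]
        have hcl := hWcard ρ hρK hρ1
        rw [Nat.card_eq_fintype_card] at hcl
        obtain ⟨i, j, hij, hg⟩ := Fintype.exists_ne_map_eq_of_card_lt g (by
          rw [Fintype.card_fin, hcl]; norm_num)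
        have hg' := congrArg Subtype.val hg
        have n1 : ρ w₀ ≠ w₀ := fun h => hρ1 (hfix ρ hρK h)
        have n2 : (ρ ^ 2) w₀ ≠ w₀ := fun h => by
          have e := hfix _ (pow_mem hρK 2) h
          refine hρ1 ?_
          have := h3 ρ hρK
          rwa [pow_succ, e, one_mul] at this
        have n3 : (ρ ^ 2) w₀ ≠ ρ w₀ := fun h => n1 (by
          rw [pow_two, MulAut.mul_apply] at h; exact ρ.injective h)
        have n4 : ρ w₀ ≠ 1 := fun h => hw₀1 (ρ.injective (h.trans (map_one ρ).symm))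
        have n5 : (ρ ^ 2) w₀ ≠ 1 := fun h => hw₀1 ((ρ ^ 2).injective (h.trans (map_one _).symm))
        fin_cases i <;> fin_cases j <;>
          first
          | exact hij rfl
          | exact hw₀1 hg' | exact hw₀1 hg'.symm | exact n1 hg' | exact n1 hg'.symm
          | exact n2 hg' | exact n2 hg'.symm | exact n3 hg' | exact n3 hg'.symm
          | exact n4 hg' | exact n4 hg'.symm | exact n5 hg' | exact n5 hg'.symm
          | exact hy1 hg' | exact hy1 hg'.symm | exact hno.1 hg' | exact hno.1 hg'.symm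
          | exact hno.2.1 hg' | exact hno.2.1 hg'.symm | exact hno.2.2 hg' | exact hno.2.2 hg'.symm
      have key : ∀ l ∈ K, k w₀ = l w₀ → k = l := fun l hl h =>
        (inv_mul_eq_one.1 (hfix (l⁻¹ * k) (mul_mem (inv_mem hl) hk) (by
          rw [MulAut.mul_apply, h, MulAut.inv_apply_self]))).symm
      rcases hne _ hkW (fun h => hw₀1 (k.injective (h.trans (map_one k).symm))) with h | h | h
      · exact Or.inl (hfix k hk h)
      · exact Or.inr (Or.inl (key ρ hρK h))
      · exact Or.inr (Or.inr (key _ (pow_mem hρK 2) h))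
    rcases hcase with rfl | rfl | rfl
    · exact ⟨1, by simp⟩
    · exact ⟨d, rfl⟩
    · have e : d⁻¹ * (ρ ^ 2) d = (d⁻¹ * ρ d) * ((ρ d)⁻¹ * ρ (ρ d)) := by
        rw [pow_two, MulAut.mul_apply, mul_assoc, mul_inv_cancel_left]
      rw [e]
      exact mul_mem ⟨d, rfl⟩ ⟨ρ d, rfl⟩
  intro a ha d
  by_cases haK : a ∈ K
  · exact hKdisp a haK d
  · have hvak : v * a ∈ K := by
      have h := (mul_mem_iff_of_index_two hK' (a := (⟨v, hvA⟩ : A)) (b := ⟨a, ha⟩)).2 ?_
      · exact ⟨_, h, rfl⟩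
      · exact iff_of_false (fun h => hvK ⟨_, h, rfl⟩) (fun h => haK ⟨_, h, rfl⟩)
    set k := v * a with hk
    have e : a d = v (k d) := by
      rw [hk, ← MulAut.mul_apply, ← mul_assoc, hv, one_mul]
    rw [e, show d⁻¹ * v (k d) = (d⁻¹ * k d) * ((k d)⁻¹ * v (k d)) by
      rw [mul_assoc, mul_inv_cancel_left]]
    refine mul_mem (hKdisp k hvak d) ?_
    by_cases hkd : k d ∈ D₀
    · rw [hD₀ _ hkd, inv_mul_cancel]; exact one_mem _
    · rw [hvdisp _ hkd]; exact hw₀W ρ hρK hρ1

end H70.Len8
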