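import Mathlib.GroupTheory.Transfer
import Mathlib.GroupTheory.Index
import Mathlib.GroupTheory.IndexNormal
import Mathlib.GroupTheory.Sylow
import Mathlib.Tactic.NormNum.Prime
import Mathlib.Algebra.Field.ZMod
import Mathlib.GroupTheory.GroupAction.Basic
import Cfsg.Agent.H70.Len8.Reflect

/-!
A group of automorphisms of an abelian group of order eight or sixteen with trivial 2-core and a
point stabiliser which is a self-normalising Sylow 2-subgroup of order at least four does not exist
under the length restriction.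
-/

set_option autoImplicit false
set_option linter.style.haveILetI false
set_option linter.unusedSectionVars false
set_option maxHeartbeats 400000

namespace H70.Len8

open Subgroup

variable {D : Type*} [CommGroup D] [Finite D]

/-- The data: `S` is the stabiliser of `z` and a Sylow 2-subgroup of `A`. -/
structure ActData (D : Type*) [CommGroup D] where
  A : Subgroup (MulAut D)
  S : Subgroup (MulAut D)
  z : D
  hSA : S ≤ A
  hS : IsPGroup 2 S
  hstab : ∀ a ∈ A, a z = z ↔ a ∈ S
  hcore : ∀ N : Subgroup (MulAut D), N ≤ A → IsPGroup 2 N →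
    (∀ a ∈ A, ∀ n ∈ N, a * n * a⁻¹ ∈ N) → N = ⊥
  hself : ∀ a ∈ A, (∀ s ∈ S, a * s * a⁻¹ ∈ S) → a ∈ S
  m : ℕ
  hm : Odd m
  hm1 : m ≠ 1
  hcard : Nat.card A = Nat.card S * m

variable (E : ActData D)

/-- An element fixing the whole orbit of `z` is trivial. -/
theorem ActData.faithful {k : MulAut D} (hk : k ∈ E.A) (h : ∀ a ∈ E.A, k (a E.z) = a E.z) : k = 1 := by
  let N : Subgroup (MulAut D) :=
    { carrier := {x | x ∈ E.A ∧ ∀ a ∈ E.A, x (a E.z) = a E.z}
      one_mem' := ⟨one_mem _, fun a _ => rfl⟩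
      mul_mem' := fun {x y} hx hy => ⟨mul_mem hx.1 hy.1, fun a ha => by
        rw [MulAut.mul_apply, hy.2 a ha, hx.2 a ha]⟩
      inv_mem' := fun {x} hx => ⟨inv_mem hx.1, fun a ha => by
        conv_lhs => rw [← hx.2 a ha]
        rw [MulAut.inv_apply_self]⟩ }
  have hN : N = ⊥ := by
    refine E.hcore N (fun x hx => hx.1) (E.hS.to_le fun x hx => (E.hstab x hx.1).1 (hx.2 1 (one_mem _))) ?_
    rintro a ha n ⟨hn, hn'⟩
    refine ⟨mul_mem (mul_mem ha hn) (inv_mem ha), fun b hb => ?_⟩
    have h1 := hn' _ (mul_mem (inv_mem ha) hb)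
    rw [MulAut.mul_apply] at h1
    rw [MulAut.mul_apply, MulAut.mul_apply, h1, MulAut.apply_inv_self]
  have : k ∈ N := ⟨hk, h⟩
  rwa [hN, mem_bot] at this

theorem ActData.finiteA : Finite E.A := by
  haveI : Finite (MulAut D) := Finite.of_injective (fun f : MulAut D => (f : D → D))
    (fun f g h => MulEquiv.ext fun d => congrFun h d)
  infer_instance

/-- The orbit of `z`. -/
def ActData.orbit : Set D := (fun a : E.A => (a : MulAut D) E.z) '' Set.univ

theorem ActData.z_ne_one : E.z ≠ 1 := by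
  intro h
  have hSA : E.A ≤ E.S := fun a ha => (E.hstab a ha).1 (by rw [h, map_one])
  have h2 := E.hcard
  rw [le_antisymm E.hSA hSA] at h2
  haveI := E.finiteA
  exact E.hm1 (Nat.eq_of_mul_eq_mul_left Nat.card_pos (by rw [← h2, mul_one]))

theorem ActData.card_orbit : Nat.card E.orbit = E.m := by
  haveI := E.finiteA
  let S' := E.S.subgroupOf E.A
  have hidx : S'.index = E.m := by
    have h := S'.card_mul_index
    rw [Nat.card_congr (subgroupOfEquivOfLe E.hSA).toEquiv, E.hcard] at h
    have hpos : 0 < Nat.card E.S := by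
      haveI : Finite E.S := Finite.of_injective (inclusion E.hSA) (inclusion_injective _)
      exact Nat.card_pos
    exact Nat.eq_of_mul_eq_mul_left hpos h
  rw [← hidx, Subgroup.index]
  refine Nat.card_congr (Equiv.ofBijective (fun q => (⟨(Quotient.liftOn' q (fun a : E.A =>
    (a : MulAut D) E.z) ?_), ?_⟩ : E.orbit)) ⟨?_, ?_⟩).symm
  · intro a b hab
    rw [QuotientGroup.leftRel_apply, mem_subgroupOf] at hab
    have h := (E.hstab _ (mul_mem (inv_mem a.2) b.2)).2 hab
    rw [MulAut.mul_apply] at h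
    conv_lhs => rw [← h]
    rw [MulAut.apply_inv_self]
  · induction q using QuotientGroup.induction_on with | _ a => exact ⟨a, trivial, rfl⟩
  · intro p q hpq
    induction p using QuotientGroup.induction_on with | _ a =>
    induction q using QuotientGroup.induction_on with | _ b =>
    have h : (a : MulAut D) E.z = (b : MulAut D) E.z := congrArg Subtype.val hpq
    rw [QuotientGroup.eq, mem_subgroupOf]
    refine (E.hstab _ (mul_mem (inv_mem a.2) b.2)).1 ?_
    rw [MulAut.mul_apply, ← h, MulAut.inv_apply_self]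
  · rintro ⟨_, a, -, rfl⟩
    exact ⟨(a : E.A ⧸ S'), rfl⟩

theorem ActData.m_lt : E.m < Nat.card D := by
  rw [← E.card_orbit]
  refine Finite.card_subtype_lt (x := (1 : D)) ?_
  rintro ⟨a, -, hx⟩
  exact E.z_ne_one ((a : MulAut D).injective (hx.trans (map_one _).symm))

theorem ActData.card_le_six (h3 : E.m = 3) : Nat.card E.A ≤ 6 := by
  haveI := E.finiteA
  haveI : Finite E.orbit := Subtype.finite
  have hinv : ∀ (k : E.A), ∀ x ∈ E.orbit, (k : MulAut D) x ∈ E.orbit := by
    rintro k _ ⟨a, -, rfl⟩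
    exact ⟨k * a, trivial, rfl⟩
  let f : E.A → Equiv.Perm E.orbit := fun k =>
    Equiv.ofBijective (fun x => ⟨(k : MulAut D) x.1, hinv k x.1 x.2⟩)
      (Finite.injective_iff_bijective.1 fun x y h =>
        Subtype.ext ((k : MulAut D).injective (congrArg Subtype.val h)))
  have hf : Function.Injective f := by
    intro a b h
    have key : ((b : MulAut D)⁻¹ * a) = 1 := E.faithful (mul_mem (inv_mem b.2) a.2) fun c hc => by
      have h1 := congrArg Subtype.val (Equiv.congr_fun h ⟨c E.z, ⟨c, hc⟩, trivial, rfl⟩)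
      rw [MulAut.mul_apply]
      change (a : MulAut D) (c E.z) = (b : MulAut D) (c E.z) at h1
      rw [h1, MulAut.inv_apply_self]
    exact Subtype.ext (inv_mul_eq_one.1 key).symm
  refine (Nat.card_le_card_of_injective f hf).trans ?_
  rw [Nat.card_perm, E.card_orbit, h3]
  rfl

/-- When `m = r` is prime, an element of `S` centralising an element of order `r` is trivial. -/
theorem ActData.centralizes (hr : E.m.Prime) {ρ s : MulAut D} (hρ : ρ ∈ E.A)
    (hρo : orderOf ρ = E.m) (hs : s ∈ E.S) (hc : ρ * s = s * ρ) : s = 1 := by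
  refine E.faithful (E.hSA hs) fun a ha => ?_
  -- the powers of `ρ` already exhaust the orbit
  have hfix : ∀ k : ℕ, s ((ρ ^ k) E.z) = (ρ ^ k) E.z := by
    intro k
    rw [← MulAut.mul_apply, ← (Commute.pow_left hc k).eq, MulAut.mul_apply,
      (E.hstab s (E.hSA hs)).2 hs]
  have hρz : ρ E.z ≠ E.z := by
    intro h
    obtain ⟨k, hk⟩ := IsPGroup.iff_orderOf.1 E.hS ⟨ρ, (E.hstab ρ hρ).1 h⟩
    rw [Subgroup.orderOf_mk, hρo] at hk
    have := E.hm
    rw [hk] at this
    rcases k with _ | k
    · exact E.hm1 (by rw [hk, pow_zero])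
    · exact absurd this (by simp [Nat.even_pow, parity_simps])
  haveI : Finite E.orbit := Subtype.finite
  let g : Fin E.m → E.orbit := fun j => ⟨(ρ ^ (j : ℕ)) E.z, ⟨_, pow_mem hρ j⟩, trivial, rfl⟩
  have hg : Function.Injective g := by
    intro i j h
    have h' : (ρ ^ (i : ℕ)) E.z = (ρ ^ (j : ℕ)) E.z := congrArg Subtype.val h
    wlog hlt : (i : ℕ) ≤ j generalizing i j
    · exact (this h.symm h'.symm (by omega)).symm
    by_contra hij
    have hne : (i : ℕ) ≠ j := fun h => hij (Fin.ext h)
    have hd : (ρ ^ ((j : ℕ) - i)) E.z = E.z := by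
      refine (ρ ^ (i : ℕ)).injective ?_
      rw [← MulAut.mul_apply, ← pow_add, show (i : ℕ) + (j - i) = j by omega]
      exact h'.symm
    have hp1 : Function.IsPeriodicPt (ρ : D → D) ((j : ℕ) - i) E.z := by
      have : ∀ (k : ℕ) (x : D), (ρ : D → D)^[k] x = (ρ ^ k) x := by
        intro k
        induction k with
        | zero => intro x; rfl
        | succ k ih => intro x; rw [Function.iterate_succ_apply', ih, pow_succ', MulAut.mul_apply]
      show (ρ : D → D)^[_] _ = _
      rw [this]; exact hd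
    have hp2 : Function.IsPeriodicPt (ρ : D → D) E.m E.z := by
      have : ∀ (k : ℕ) (x : D), (ρ : D → D)^[k] x = (ρ ^ k) x := by
        intro k
        induction k with
        | zero => intro x; rfl
        | succ k ih => intro x; rw [Function.iterate_succ_apply', ih, pow_succ', MulAut.mul_apply]
      show (ρ : D → D)^[_] _ = _
      rw [this, ← hρo, pow_orderOf_eq_one]; rfl
    have hp := hp1.gcd hp2
    rw [(Nat.coprime_comm.1 (hr.coprime_iff_not_dvd.2 fun hd => by
      have := Nat.le_of_dvd (by omega) hd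
      omega))] at hp
    exact hρz hp
  have hb := (Nat.bijective_iff_injective_and_card g).2 ⟨hg, by rw [Nat.card_fin, E.card_orbit]⟩
  obtain ⟨j, hj⟩ := hb.2 ⟨a E.z, ⟨a, ha⟩, trivial, rfl⟩
  have hj' : (ρ ^ (j : ℕ)) E.z = a E.z := congrArg Subtype.val hj
  rw [← hj']
  exact hfix j

theorem ActData.order_eight (hS8 : Nat.card E.S = 8) (hD : Nat.card D = 8) : False := by
  classical
  haveI := E.finiteA
  have hlt := E.m_lt
  rw [hD] at hlt
  have hm := E.hm
  have hm1 := E.hm1
  obtain h3 | h57 : E.m = 3 ∨ (E.m = 5 ∨ E.m = 7) := by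
    obtain ⟨k, hk⟩ := hm
    omega
  · have := E.card_le_six h3
    rw [E.hcard, hS8, h3] at this
    omega
  have hr : E.m.Prime := by rcases h57 with h | h <;> rw [h] <;> norm_num
  haveI : Fact E.m.Prime := ⟨hr⟩
  have hcard := E.hcard
  rw [hS8] at hcard
  obtain ⟨R⟩ : Nonempty (Sylow E.m E.A) := inferInstance
  have hfac : (Nat.card E.A).factorization E.m = 1 := by
    rw [hcard, Nat.factorization_mul (by norm_num) (by omega), Finsupp.add_apply,
      hr.factorization_self]
    rcases h57 with h | h <;> rw [h] <;>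
      rw [Nat.factorization_eq_zero_of_not_dvd (by norm_num)]
  have hRc : Nat.card R = E.m := by rw [R.card_eq_multiplicity, hfac, pow_one]
  haveI : IsCyclic R := isCyclic_of_prime_card hRc
  obtain ⟨ρ, hρ⟩ := IsCyclic.exists_generator (α := R)
  have hρo : orderOf ((ρ : E.A) : MulAut D) = E.m := by
    rw [orderOf_coe, orderOf_coe, orderOf_eq_card_of_forall_mem_zpowers hρ, hRc]
  have key : ∀ s ∈ E.S, ((ρ : E.A) : MulAut D) * s = s * ((ρ : E.A) : MulAut D) → s = 1 :=
    fun s hs h => E.centralizes hr (ρ : E.A).2 hρo hs h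
  by_cases hn : (R : Subgroup E.A).Normal
  · -- the eight elements of `S` move `ρ` freely among `m - 1` elements
    haveI : Finite E.S := Finite.of_injective (inclusion E.hSA) (inclusion_injective _)
    let f : E.S → {x : R // x ≠ 1} := fun s => ⟨⟨⟨s, E.hSA s.2⟩ * (ρ : E.A) * (⟨s, E.hSA s.2⟩ : E.A)⁻¹,
      hn.conj_mem _ ρ.2 _⟩, fun h => by
        have h' : (⟨s, E.hSA s.2⟩ : E.A) * (ρ : E.A) * (⟨s, E.hSA s.2⟩ : E.A)⁻¹ = 1 :=
          congrArg Subtype.val h
        rw [conj_eq_one_iff] at h'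
        have h'' : ((ρ : E.A) : MulAut D) = 1 := by rw [h']; rfl
        rw [h'', orderOf_one] at hρo
        exact E.hm1 hρo.symm⟩
    have hinj : Function.Injective f := by
      intro a b h
      have h' : (a : MulAut D) * ((ρ : E.A) : MulAut D) * (a : MulAut D)⁻¹ =
          (b : MulAut D) * ((ρ : E.A) : MulAut D) * (b : MulAut D)⁻¹ :=
        congrArg (fun x : {x : R // x ≠ 1} => (((x : R) : E.A) : MulAut D)) h
      have h1 := key _ (mul_mem (inv_mem b.2) a.2) (by
        calc ((ρ : E.A) : MulAut D) * ((b : MulAut D)⁻¹ * a)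
            = (b : MulAut D)⁻¹ * ((b : MulAut D) * ((ρ : E.A) : MulAut D) * (b : MulAut D)⁻¹) * a := by
              group
          _ = (b : MulAut D)⁻¹ * ((a : MulAut D) * ((ρ : E.A) : MulAut D) * (a : MulAut D)⁻¹) * a := by
              rw [h']
          _ = (b : MulAut D)⁻¹ * a * ((ρ : E.A) : MulAut D) := by group)
      exact Subtype.ext (inv_mul_eq_one.1 h1).symm
    have hle := Nat.card_le_card_of_injective f hinj
    haveI : Fintype R := Fintype.ofFinite _
    rw [hS8, Nat.card_eq_fintype_card (α := {x : R // x ≠ 1}), Fintype.card_subtype_compl,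
      Fintype.card_subtype_eq, ← Nat.card_eq_fintype_card] at hle
    change 8 ≤ Nat.card ↥(R : Subgroup E.A) - 1 at hle
    rw [hRc] at hle
    omega
  · -- eight Sylow subgroups, so a normal 2-complement
    have hn8 : Nat.card (Sylow E.m E.A) = 8 := by
      have hd : Nat.card (Sylow E.m E.A) ∣ 8 := by
        have h1 := R.card_dvd_index
        have h2 : (R : Subgroup E.A).index = 8 := by
          have h := (R : Subgroup E.A).card_mul_index
          rw [hRc, hcard] at h
          exact Nat.eq_of_mul_eq_mul_left hr.pos (h.trans (mul_comm 8 E.m))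
        rwa [h2] at h1
      have hmod : Nat.card (Sylow E.m E.A) % E.m = 1 := by
        have := card_sylow_modEq_one E.m E.A
        rwa [Nat.ModEq, Nat.one_mod_eq_one.2 hr.ne_one] at this
      have hne : Nat.card (Sylow E.m E.A) ≠ 1 := fun h => hn (by
        haveI : Subsingleton (Sylow E.m E.A) := (Nat.card_eq_one_iff_unique.1 h).1
        exact R.normal_of_subsingleton)
      generalize Nat.card (Sylow E.m E.A) = n at hd hmod hne ⊢
      have := Nat.le_of_dvd (by norm_num) hd
      rcases h57 with h | h <;> rw [h] at hmod <;> interval_cases n <;> omega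
    have hN : normalizer ((R : Subgroup E.A) : Set E.A) = (R : Subgroup E.A) := by
      refine (eq_of_le_of_card_ge le_normalizer ?_).symm
      have h1 := (normalizer ((R : Subgroup E.A) : Set E.A)).card_mul_index
      rw [show (normalizer ((R : Subgroup E.A) : Set E.A)).index = 8 from
        R.card_eq_index_normalizer.symm.trans hn8, hcard] at h1
      rw [hRc]
      omega
    haveI : IsMulCommutative R := ⟨⟨fun a b => IsCyclic.commutative.is_comm.comm a b⟩⟩
    have hNC : normalizer ((R : Subgroup E.A) : Set E.A) ≤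
        centralizer ((R : Subgroup E.A) : Set E.A) := hN.le.trans (le_centralizer _)
    have hcompl := MonoidHom.ker_transferSylow_isComplement' R hNC
    generalize MonoidHom.transferSylow R hNC = t at hcompl
    have hK : Nat.card t.ker = 8 := by
      have h := hcompl.card_mul
      rw [hRc, hcard] at h
      exact Nat.eq_of_mul_eq_mul_right hr.pos h
    haveI : Fact (Nat.Prime 2) := ⟨Nat.prime_two⟩
    have hb := E.hcore (t.ker.map E.A.subtype) (map_subtype_le _)
      (IsPGroup.of_card (n := 3) (by rw [card_map_of_injective E.A.subtype_injective, hK]; norm_num))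
      (by
        rintro a ha _ ⟨k, hk, rfl⟩
        exact ⟨(⟨a, ha⟩ : E.A) * k * (⟨a, ha⟩ : E.A)⁻¹, t.normal_ker.conj_mem k hk _,
          (map_mul E.A.subtype _ _).trans (congrArg₂ (· * ·) (map_mul E.A.subtype _ _) (map_inv E.A.subtype _))⟩)
    rw [map_eq_bot_iff_of_injective _ E.A.subtype_injective] at hb
    rw [hb, card_bot] at hK
    omega

theorem ActData.order_four (hS4 : Nat.card E.S = 4) (hD : Nat.card D = 8 ∨ Nat.card D = 16)
    (h2 : IsPGroup 2 D) (V : Subgroup (MulAut D)) (hVS : V ≤ E.S) (hV1 : V ≠ ⊥) (D₀ : Subgroup D)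
    (hV : ∀ v ∈ V, ∀ d ∈ D₀, v d = d) (hdisp : ∀ v ∈ V, ∀ d, d⁻¹ * v d ∈ D₀)
    (hcardV : Nat.card V = D₀.index)
    (hchain : Nat.card D = 16 → ∀ K₁ K₂ K₃ : Subgroup (MulAut D), K₁ ≠ ⊥ → K₁ < K₂ → K₂ < K₃ →
      K₃ < E.A → False) : False := by
  haveI := E.finiteA
  haveI : Fact (Nat.Prime 2) := ⟨Nat.prime_two⟩
  haveI : Finite E.S := Finite.of_injective (inclusion E.hSA) (inclusion_injective _)
  have hScomm : ∀ a ∈ E.S, ∀ b ∈ E.S, a * b = b * a := fun a ha b hb => congrArg Subtype.val
    (IsPGroup.isMulCommutative_of_card_eq_prime_sq (G := E.S) (p := 2) (by rw [hS4]; norm_num) |>.is_comm.comm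
      ⟨a, ha⟩ ⟨b, hb⟩)
  -- the normal complement
  set S' := E.S.subgroupOf E.A with hS'def
  have hS'c : Nat.card S' = 4 := by rw [Nat.card_congr (subgroupOfEquivOfLe E.hSA).toEquiv, hS4]
  have hS'idx : S'.index = E.m := by
    have h := S'.card_mul_index
    rw [hS'c, E.hcard, hS4] at h
    omega
  let PS : Sylow 2 E.A := IsPGroup.toSylow (E.hS.comap_subtype) (by
    rw [show (E.S.comap E.A.subtype).index = E.m from hS'idx]
    exact fun h => Nat.not_even_iff_odd.2 E.hm (even_iff_two_dvd.2 h))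
  have hNC : normalizer ((PS : Subgroup E.A) : Set E.A) ≤
      centralizer ((PS : Subgroup E.A) : Set E.A) := by
    intro a ha
    have haS : (a : MulAut D) ∈ E.S := E.hself a a.2 fun s hs =>
      (mem_normalizer_iff.1 ha ⟨s, E.hSA hs⟩).1 hs
    exact mem_centralizer_iff.2 fun b hb => Subtype.ext (hScomm b hb a haS)
  have hcompl := MonoidHom.ker_transferSylow_isComplement' PS hNC
  generalize MonoidHom.transferSylow PS hNC = t at hcompl
  have hKc : Nat.card t.ker = E.m := by
    have h := hcompl.card_mul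
    rw [show Nat.card ↥(PS : Subgroup E.A) = 4 from hS'c, E.hcard, hS4] at h
    omega
  set K := t.ker.map E.A.subtype with hKdef
  have hKA : K ≤ E.A := map_subtype_le _
  have hKn : ∀ k ∈ K, ∀ a ∈ E.A, a * k * a⁻¹ ∈ K := by
    rintro _ ⟨k, hk, rfl⟩ a ha
    exact ⟨(⟨a, ha⟩ : E.A) * k * (⟨a, ha⟩ : E.A)⁻¹, t.normal_ker.conj_mem k hk _,
          (map_mul E.A.subtype _ _).trans (congrArg₂ (· * ·) (map_mul E.A.subtype _ _) (map_inv E.A.subtype _))⟩
  have hKcard : Nat.card K = E.m := by rw [hKdef, card_map_of_injective E.A.subtype_injective, hKc]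
  have hKS : ∀ k ∈ K, k ∈ E.S → k = 1 := by
    intro k hk hkS
    haveI : Finite K := Finite.of_injective (inclusion hKA) (inclusion_injective _)
    have hd1 : orderOf k ∣ E.m := hKcard ▸ Subgroup.orderOf_dvd_natCard K hk
    have hd2 : orderOf k ∣ 4 := hS4 ▸ Subgroup.orderOf_dvd_natCard E.S hkS
    have hc : Nat.Coprime E.m 4 := by
      rw [show (4 : ℕ) = 2 ^ 2 by norm_num]
      exact (Nat.coprime_two_right.2 E.hm).pow_right 2
    exact orderOf_eq_one_iff.1 (Nat.eq_one_of_dvd_one (hc ▸ Nat.dvd_gcd hd1 hd2))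
  -- `m` is prime
  have hlt := E.m_lt
  have hr : E.m.Prime := by
    by_contra hnp
    have hD16 : Nat.card D = 16 := by
      rcases hD with h | h
      · exfalso
        rw [h] at hlt
        have := E.hm; have := E.hm1
        obtain ⟨j, hj⟩ := E.hm
        exact hnp (by
          have : E.m = 3 ∨ E.m = 5 ∨ E.m = 7 := by omega
          rcases this with h | h | h <;> rw [h] <;> norm_num)
      · exact h
    obtain ⟨r, hr, hrm⟩ := Nat.exists_prime_and_dvd E.hm1
    haveI := Fact.mk hr
    haveI : Finite K := Finite.of_injective (inclusion hKA) (inclusion_injective _)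
    obtain ⟨⟨ρ, hρK⟩, hρ⟩ := exists_prime_orderOf_dvd_card' (G := K) r (hKcard ▸ hrm)
    rw [Subgroup.orderOf_mk] at hρ
    obtain ⟨⟨u, huS⟩, hu⟩ := exists_prime_orderOf_dvd_card' (G := E.S) 2 (by rw [hS4]; norm_num)
    rw [Subgroup.orderOf_mk] at hu
    let L : Subgroup (MulAut D) := K ⊔ zpowers u
    have huN : zpowers u ≤ normalizer (K : Set (MulAut D)) := zpowers_le.2 (mem_normalizer_iff.2
      fun x => ⟨fun hx => hKn x hx u (E.hSA huS), fun hx => by
        have := hKn _ hx u⁻¹ (inv_mem (E.hSA huS))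
        simpa [mul_assoc] using this⟩)
    refine hchain hD16 (zpowers ρ) K L ?_ (lt_of_le_of_ne (zpowers_le.2 hρK) fun h => ?_)
      (lt_of_le_of_ne le_sup_left fun h => ?_)
      (lt_of_le_of_ne (sup_le hKA (zpowers_le.2 (E.hSA huS))) fun h => ?_)
    · intro h
      rw [zpowers_eq_bot] at h
      rw [h, orderOf_one] at hρ
      exact hr.ne_one hρ.symm
    · exact hnp (by rw [← hKcard, ← h, Nat.card_zpowers, hρ]; exact hr)
    · have : u ∈ K := h ▸ mem_sup_right (mem_zpowers u)
      rw [hKS u this huS, orderOf_one] at hu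
      omega
    · -- then `S` would be generated by `u`
      have hle : E.S ≤ zpowers u := by
        intro s hs
        have hsL : s ∈ L := h ▸ E.hSA hs
        have hsL' : s ∈ ((K ⊔ zpowers u : Subgroup (MulAut D)) : Set (MulAut D)) := hsL
        rw [Subgroup.coe_mul_of_right_le_normalizer_left K (zpowers u) huN] at hsL'
        obtain ⟨k, hk, x, hx, hkx⟩ := hsL'
        have hxS : x ∈ E.S := zpowers_le.2 huS hx
        have hkS : k ∈ E.S := by
          rw [show k = s * x⁻¹ by rw [← hkx]; group]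
          exact mul_mem hs (inv_mem hxS)
        rw [← hkx, hKS k hk hkS]
        simpa using hx
      have := Subgroup.card_le_of_le hle
      rw [hS4, Nat.card_zpowers, hu] at this
      omega
  haveI : Fact E.m.Prime := ⟨hr⟩
  haveI : Finite K := Finite.of_injective (inclusion hKA) (inclusion_injective _)
  haveI : IsCyclic K := isCyclic_of_prime_card hKcard
  obtain ⟨⟨ρ, hρK⟩, hρ⟩ := IsCyclic.exists_generator (α := K)
  have hρo : orderOf ρ = E.m := by
    rw [← Subgroup.orderOf_mk ρ hρK, orderOf_eq_card_of_forall_mem_zpowers hρ, hKcard]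
  have hρpow : ∀ k ∈ K, ∃ j : ℤ, k = ρ ^ j := by
    intro k hk
    obtain ⟨j, hj⟩ := mem_zpowers_iff.1 (hρ ⟨k, hk⟩)
    exact ⟨j, (congrArg Subtype.val hj).symm⟩
  have hinvert : ∀ u ∈ E.S, u * u = 1 → u ≠ 1 → u * ρ * u⁻¹ = ρ⁻¹ := by
    intro u hu huu hu1
    obtain ⟨j, hj⟩ := hρpow _ (hKn ρ hρK u (E.hSA hu))
    have h2 : ρ ^ (j * j) = ρ := by
      rw [zpow_mul, ← hj, conj_zpow, ← hj, ← mul_assoc, ← mul_assoc, huu, one_mul, mul_assoc,
        ← mul_inv_rev, huu, inv_one, mul_one]
    have h3 : ((j * j : ℤ) : ZMod E.m) = 1 := by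
      have h4 : ρ ^ (j * j - 1) = 1 := by rw [zpow_sub, h2, zpow_one, mul_inv_cancel]
      rw [← orderOf_dvd_iff_zpow_eq_one, hρo, ← ZMod.intCast_zmod_eq_zero_iff_dvd] at h4
      push_cast at h4 ⊢
      exact sub_eq_zero.1 h4
    push_cast at h3
    rcases mul_self_eq_one_iff.1 h3 with h4 | h4
    · exfalso
      refine hu1 (E.centralizes hr (hKA hρK) hρo hu ?_)
      have : ρ ^ j = ρ ^ (1 : ℤ) := by
        rw [zpow_eq_zpow_iff_modEq, hρo, ← ZMod.intCast_eq_intCast_iff]
        push_cast; exact h4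
      rw [zpow_one, ← hj] at this
      exact (mul_inv_eq_iff_eq_mul.1 this).symm
    · have : ρ ^ j = ρ ^ (-1 : ℤ) := by
        rw [zpow_eq_zpow_iff_modEq, hρo, ← ZMod.intCast_eq_intCast_iff]
        push_cast; exact h4
      rwa [zpow_neg_one, ← hj] at this
  have hinv2 : ∀ u ∈ E.S, ∀ w ∈ E.S, u * u = 1 → w * w = 1 → u ≠ 1 → w ≠ 1 → u = w := by
    intro u hu w hw huu hww hu1 hw1
    have h1 := hinvert u hu huu hu1
    have h2' := hinvert w hw hww hw1
    have hc : ρ * (u * w) = u * w * ρ := by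
      calc ρ * (u * w) = u * (u⁻¹ * ρ * u) * w := by group
        _ = u * (u * ρ * u⁻¹) * w := by rw [inv_eq_of_mul_eq_one_right huu]
        _ = u * (w * ρ * w⁻¹) * w := by rw [h1, h2']
        _ = u * w * ρ := by group
    have h := E.centralizes hr (hKA hρK) hρo (mul_mem hu hw) hc
    rw [← inv_eq_of_mul_eq_one_right h, inv_eq_of_mul_eq_one_right huu]
  -- `S` is cyclic
  obtain ⟨s, hs, hso⟩ : ∃ s ∈ E.S, orderOf s = 4 := by
    by_contra! hno
    have hexp : ∀ s ∈ E.S, s * s = 1 := by
      intro s hs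
      have hd : orderOf s ∣ 2 ^ 2 := by
        rw [show (2 : ℕ) ^ 2 = 4 by norm_num, ← hS4]; exact Subgroup.orderOf_dvd_natCard E.S hs
      obtain ⟨j, hj, hjo⟩ := (Nat.dvd_prime_pow Nat.prime_two).1 hd
      have hne := hno s hs
      rw [hjo] at hne
      have : j ≤ 1 := by
        by_contra! h
        exact hne (by rw [show j = 2 by omega]; norm_num)
      rw [← pow_two]
      exact orderOf_dvd_iff_pow_eq_one.1 (hjo ▸ Nat.pow_dvd_pow 2 this |>.trans (by norm_num))
    haveI : Fintype E.S := Fintype.ofFinite _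
    have h2c : 2 < Fintype.card E.S := by rw [← Nat.card_eq_fintype_card, hS4]; norm_num
    obtain ⟨a, b, c, hab, hac, hbc⟩ := Fintype.two_lt_card_iff.1 h2c
    obtain ⟨⟨x, hxS⟩, ⟨y, hyS⟩, hxy, hx1, hy1⟩ : ∃ x y : E.S, x ≠ y ∧ x ≠ 1 ∧ y ≠ 1 := by
      by_cases ha : a = 1
      · exact ⟨b, c, hbc, fun h => hab (ha.trans h.symm), fun h => hac (ha.trans h.symm)⟩
      by_cases hb : b = 1
      · exact ⟨a, c, hac, ha, fun h => hbc (hb.trans h.symm)⟩
      exact ⟨a, b, hab, ha, hb⟩
    exact hxy (Subtype.ext (hinv2 x hxS y hyS (hexp x hxS) (hexp y hyS)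
      (fun h => hx1 (Subtype.ext h)) (fun h => hy1 (Subtype.ext h))))
  set v := s * s with hvdef
  have hvS : v ∈ E.S := mul_mem hs hs
  have hvv : v * v = 1 := by
    rw [hvdef, show s * s * (s * s) = s ^ 4 by simp [pow_succ, mul_assoc], ← hso, pow_orderOf_eq_one]
  have hv1 : v ≠ 1 := fun h => by
    have : orderOf s ∣ 2 := orderOf_dvd_of_pow_eq_one (by rw [pow_two]; exact h)
    rw [hso] at this
    norm_num at this
  -- `v` fixes a subgroup of index two
  obtain ⟨M, hM2, hMfix⟩ : ∃ M : Subgroup D, M.index ≤ 2 ∧ ∀ d ∈ M, v d = d := by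
    haveI : Finite V := Finite.of_injective (inclusion (hVS.trans E.hSA)) (inclusion_injective _)
    obtain ⟨⟨u, hu⟩, huo⟩ := exists_prime_orderOf_dvd_card' (G := V) 2 (by
      obtain ⟨j, hj⟩ := IsPGroup.iff_card.1 (E.hS.to_le hVS)
      rw [hj]
      rcases j with _ | j
      · exact absurd (card_eq_one.1 (by rw [hj, pow_zero])) hV1
      · exact dvd_pow_self 2 (by omega))
    rw [Subgroup.orderOf_mk] at huo
    have huv : u = v := hinv2 u (hVS hu) v hvS (by rw [← pow_two, ← huo, pow_orderOf_eq_one]) hvv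
      (fun h => by rw [h, orderOf_one] at huo; omega) hv1
    subst huv
    by_cases h2i : D₀.index ≤ 2
    · exact ⟨D₀, h2i, hV v hu⟩
    have hV4 : V = E.S := eq_of_le_of_card_ge hVS (by
      rw [hS4, hcardV]
      obtain ⟨j, hj⟩ := IsPGroup.iff_card.1 (E.hS.to_le hVS)
      rw [hcardV] at hj
      rcases j with _ | _ | j
      · rw [hj] at h2i; norm_num at h2i
      · rw [hj] at h2i; norm_num at h2i
      · rw [hj, pow_succ, pow_succ]
        have : 0 < 2 ^ j := Nat.pow_pos (by norm_num)
        omega)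
    have hsV : s ∈ V := hV4 ▸ hs
    let φ : D →* D := MonoidHom.mk' (fun d => (d⁻¹ * s d) ^ 2) fun a b => by
      rw [← mul_pow, mul_inv_rev, map_mul]
      congr 1
      simp only [mul_comm, mul_left_comm, mul_assoc]
    refine ⟨φ.ker, ?_, ?_⟩
    · rw [Subgroup.index_ker]
      -- the image lies among the squares of a group of order at most four
      have hle : φ.range ≤ D₀.map (powMonoidHom 2) := by
        rintro _ ⟨d, rfl⟩
        exact ⟨_, hdisp s hsV d, rfl⟩
      refine (Subgroup.card_le_of_le hle).trans ?_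
      have hD0 : Nat.card D₀ ≤ 4 := by
        have h := D₀.card_mul_index
        rw [show D₀.index = 4 by rw [← hcardV, hV4, hS4]] at h
        omega
      haveI : Finite D₀ := inferInstance
      obtain ⟨j, hj⟩ := IsPGroup.iff_card.1 (h2.to_subgroup D₀)
      rcases j with _ | j
      · rw [card_eq_one.1 (show Nat.card D₀ = 1 by rw [hj, pow_zero]), Subgroup.map_bot, card_bot]
        norm_num
      obtain ⟨⟨x, hx⟩, hxo⟩ := exists_prime_orderOf_dvd_card' (G := D₀) 2
        (by rw [hj]; exact dvd_pow_self 2 (by omega))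
      rw [Subgroup.orderOf_mk] at hxo
      let ψ : D₀ →* D := (powMonoidHom 2).comp D₀.subtype
      have hψ : D₀.map (powMonoidHom 2) = ψ.range := by
        rw [MonoidHom.range_eq_map, ← Subgroup.map_map, ← MonoidHom.range_eq_map, Subgroup.range_subtype]
      rw [hψ]
      have hk : 2 ≤ Nat.card ψ.ker := by
        have hmem : (⟨x, hx⟩ : D₀) ∈ ψ.ker := by
          show x ^ 2 = 1
          rw [← hxo, pow_orderOf_eq_one]
        have hne : Nontrivial ψ.ker := ⟨⟨⟨_, hmem⟩, 1, fun h => by
          have hx1 : x = 1 := congrArg (fun y : ψ.ker => ((y : D₀) : D)) h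
          rw [hx1, orderOf_one] at hxo
          omega⟩⟩
        exact Finite.one_lt_card
      have h := ψ.ker.card_mul_index
      rw [Subgroup.index_ker] at h
      nlinarith
    · intro d hd
      have hd' : (d⁻¹ * s d) ^ 2 = 1 := hd
      have e1 : s d = d * (d⁻¹ * s d) := (mul_inv_cancel_left _ _).symm
      have hc := hV s hsV _ (hdisp s hsV d)
      show s (s d) = d
      generalize d⁻¹ * s d = c at hd' e1 hc
      rw [e1, map_mul, e1, hc, mul_assoc, ← pow_two, hd', mul_one]
  -- the commutator fixes a subgroup of index four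
  have hvρ : v * ρ * v⁻¹ = ρ⁻¹ := hinvert v hvS hvv hv1
  have hfix : (ρ ^ 2) ^ 3 = 1 := by
    refine pow_three_eq_one h2 (E.hm.of_dvd_nat (hρo ▸ orderOf_pow_dvd 2))
      (M ⊓ M.comap ρ⁻¹.toMonoidHom) ?_ ?_
    · intro d hd
      have h1 : v d = d := hMfix d hd.1
      have h2' : v (ρ⁻¹ d) = ρ⁻¹ d := hMfix _ hd.2
      have h3 : v (ρ d) = ρ⁻¹ d := by
        rw [← hvρ, MulAut.mul_apply, MulAut.mul_apply, inv_eq_of_mul_eq_one_right hvv, h1]
        rfl
      have h4 : v (ρ⁻¹ d) = ρ d := by
        rw [← h3, ← MulAut.mul_apply, hvv]; rfl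
      rw [pow_two, MulAut.mul_apply, ← h4, h2', MulAut.apply_inv_self]
    · calc (M ⊓ M.comap ρ⁻¹.toMonoidHom).index
          ≤ M.index * (M.comap ρ⁻¹.toMonoidHom).index := Subgroup.index_inf_le
        _ ≤ 4 := by
          rw [index_comap_of_surjective _ (ρ⁻¹).surjective]
          exact Nat.mul_le_mul hM2 hM2
  have hd : E.m ∣ 6 := hρo ▸ orderOf_dvd_of_pow_eq_one (by rw [← pow_mul] at hfix; exact hfix)
  have h3 : E.m = 3 := by
    have hcases : ∀ n : ℕ, n ∣ 6 → n ≠ 1 → n % 2 = 1 → n = 3 := by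
      intro n h1 h2 h3
      have := Nat.le_of_dvd (by norm_num) h1
      interval_cases n <;> omega
    exact hcases _ hd E.hm1 (Nat.odd_iff.1 E.hm)
  have := E.card_le_six h3
  rw [E.hcard, hS4, h3] at this
  omega

end H70.Len8
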