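import Cfsg.Agent.H70.Len8.NoLocal
import Cfsg.Agent.H70.Len8.Reflect
import Cfsg.Agent.H70.Len8.Perm
import Mathlib.GroupTheory.Subgroup.Centralizer

/-!
The structure of an essential subgroup `D`: abelian of order at most sixteen, of index two in
`N_T(D)`, whose automorphisms move it along a four-group.
-/

set_option autoImplicit false
set_option linter.style.haveILetI false
set_option linter.unusedSectionVars false
set_option maxHeartbeats 800000

namespace H70.Len8

open Subgroup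

variable {G : Type*} [Group G] [Finite G]

/-- Local data: a centric radical subgroup with non-2-group normalizer. -/
structure Loc (C : Ctx G) where
  D : Subgroup G
  hDT : D ≤ C.T
  hne : D ≠ C.T
  hcen : ∀ x ∈ C.T, (∀ d ∈ D, d * x = x * d) → x ∈ D
  hsyl : ¬ 2 ∣ (C.T ⊓ normalizer (D : Set G)).relIndex (normalizer (D : Set G))
  hnon : ¬ IsPGroup 2 (normalizer (D : Set G))
  hrad : ∀ R : Subgroup G, R ≤ normalizer (D : Set G) → IsPGroup 2 R → D ≤ R →
    (∀ g ∈ normalizer (D : Set G), ∀ r ∈ R, g * r * g⁻¹ ∈ R) → R ≤ D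

variable {C : Ctx G} (L : Loc C)

/-- The Sylow subgroup `N_T(D)` of the normalizer. -/
def Loc.P : Subgroup G := C.T ⊓ normalizer (L.D : Set G)

/-- The part of `D` centralised by `P`. -/
def Loc.D₀ : Subgroup G := L.D ⊓ centralizer (L.P : Set G)

theorem Loc.lt : L.D < L.P := lt_inf_normalizer C.hT L.hDT L.hne

theorem Loc.P2 : IsPGroup 2 L.P := C.hT.to_le inf_le_left

theorem Loc.ne_bot : L.D ≠ ⊥ := fun h => by
  obtain ⟨z, hz, hz1, -, hzc, -⟩ := C.exists_z
  have := L.hcen z hz (fun d hd => by rw [h, mem_bot] at hd; subst hd; simp)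
  rw [h, mem_bot] at this
  exact hz1 this

theorem Loc.P_ne : L.P ≠ C.T := fun h =>
  L.hnon (C.hT.to_le (C.normalizer_le L.ne_bot L.hDT (h ▸ inf_le_right)).le)

theorem Loc.exists_central : ∃ z : G, z ∈ L.D ∧ z ≠ 1 ∧ centralizer ({z} : Set G) = C.T := by
  obtain ⟨z, hz, hz1, -, hzc, hzC⟩ := C.exists_z
  exact ⟨z, L.hcen z hz (fun d hd => hzc d (L.hDT hd)), hz1, hzC⟩

theorem Loc.centralizer_le : centralizer (L.D : Set G) ≤ L.D := by
  obtain ⟨z, hz, -, hzC⟩ := L.exists_central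
  intro x hx
  refine L.hcen x ?_ fun d hd => mem_centralizer_iff.1 hx d hd
  rw [← hzC, mem_centralizer_singleton_iff]
  exact (mem_centralizer_iff.1 hx z hz).symm

theorem Loc.card_D : Nat.card L.D ≤ 16 := by
  obtain ⟨k, hk, hc⟩ := card_dvd_128 C L.hDT
  by_contra! h
  refine L.hnon (C.normalizer_big L.hDT ?_)
  rw [hc, show (16 : ℕ) = 2 ^ 4 by norm_num] at h
  rw [hc, show (32 : ℕ) = 2 ^ 5 by norm_num]
  exact Nat.pow_le_pow_right (by norm_num) ((Nat.pow_lt_pow_iff_right (by norm_num)).1 h)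

theorem Loc.comm {a b : G} (ha : a ∈ L.D) (hb : b ∈ L.D) : a * b = b * a := by
  by_contra hab
  obtain ⟨z, hz, hz1, hzC⟩ := L.exists_central
  exact L.hnon (C.normalizer_small L.hDT L.card_D ha hb hab hz hz1 hzC)

theorem Loc.P_not_comm : ∃ a ∈ L.P, ∃ b ∈ L.P, a * b ≠ b * a := by
  obtain ⟨v, hv, hvD⟩ := SetLike.exists_of_lt L.lt
  by_contra! h
  exact hvD (L.hcen v hv.1 fun d hd => h d (L.lt.le hd) v hv)

theorem Loc.normalizer_P : IsPGroup 2 (normalizer (L.P : Set G)) := by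
  by_cases h : 32 ≤ Nat.card L.P
  · exact C.normalizer_big inf_le_left h
  · obtain ⟨a, ha, b, hb, hab⟩ := L.P_not_comm
    obtain ⟨z, hz, hz1, hzC⟩ := L.exists_central
    have h16 : Nat.card L.P ≤ 16 := by
      obtain ⟨k, hk, hc⟩ := card_dvd_128 C (show L.P ≤ C.T from inf_le_left)
      rw [hc, show (16 : ℕ) = 2 ^ 4 by norm_num]
      rw [hc, show (32 : ℕ) = 2 ^ 5 by norm_num] at h
      refine Nat.pow_le_pow_right (by norm_num) ?_
      by_contra! hk5
      exact h (Nat.pow_le_pow_right (by norm_num) hk5)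
    exact C.normalizer_small inf_le_left h16 ha hb hab (L.lt.le hz) hz1 hzC

theorem Loc.self_norm {g : G} (hgN : g ∈ normalizer (L.D : Set G))
    (hg : g ∈ normalizer (L.P : Set G)) : g ∈ L.P := by
  haveI : Fact (Nat.Prime 2) := ⟨Nat.prime_two⟩
  set X := normalizer (L.P : Set G) ⊓ normalizer (L.D : Set G)
  have hPX : L.P ≤ X := le_inf le_normalizer inf_le_right
  obtain ⟨k, hk⟩ := IsPGroup.iff_card.1 (L.normalizer_P.to_le (show X ≤ _ from inf_le_left))
  have h2 : L.P.relIndex X ∣ 2 ^ k := hk ▸ L.P.relIndex_dvd_card X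
  have h3 : L.P.relIndex X ∣ L.P.relIndex (normalizer (L.D : Set G)) :=
    Dvd.intro _ (relIndex_mul_relIndex L.P X _ hPX inf_le_right)
  obtain ⟨i, -, hi⟩ := (Nat.dvd_prime_pow Nat.prime_two).1 h2
  rcases i with _ | i
  · rw [pow_zero] at hi
    exact relIndex_eq_one.1 hi ⟨hg, hgN⟩
  · exact absurd ((dvd_pow_self 2 (Nat.succ_ne_zero i)).trans (hi ▸ h3)) L.hsyl

theorem Loc.exists_y : ∃ y ∈ C.T, y ∈ normalizer (L.P : Set G) ∧ y ∉ normalizer (L.D : Set G) := by
  obtain ⟨y, hy, hyP⟩ := SetLike.exists_of_lt (lt_inf_normalizer C.hT inf_le_left L.P_ne)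
  exact ⟨y, hy.1, hy.2, fun h => hyP ⟨hy.1, h⟩⟩

/-- The conclusions. -/
structure Shape (L : Loc C) : Prop where
  hP : Nat.card L.P = 2 * Nat.card L.D
  h0 : Nat.card L.D = 2 * Nat.card L.D₀
  hD : Nat.card L.D = 4 ∨ Nat.card L.D = 8 ∨ Nat.card L.D = 16
  disp : 8 ≤ Nat.card L.D → ∃ w ∈ L.D, w ∉ L.D₀ ∧ w * w = 1 ∧ ∃ v ∈ C.T,
    w⁻¹ * (v * w * v⁻¹) ∈ L.D₀ ∧ w⁻¹ * (v * w * v⁻¹) ≠ 1 ∧
    (∀ d ∈ L.D, d * d ≠ w⁻¹ * (v * w * v⁻¹)) ∧
    ∀ g ∈ normalizer (L.D : Set G), ∀ d ∈ L.D,
      d⁻¹ * (g * d * g⁻¹) ∈ closure ({w, w⁻¹ * (v * w * v⁻¹)} : Set G)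

theorem Loc.shape : Shape L := by
  classical
  haveI : Fact (Nat.Prime 2) := ⟨Nat.prime_two⟩
  letI : CommGroup L.D :=
    { (inferInstance : Group L.D) with mul_comm := fun a b => Subtype.ext (L.comm a.2 b.2) }
  set N := normalizer (L.D : Set G) with hNdef
  set φ : N →* MulAut L.D := L.D.normalizerMonoidHom with hφdef
  have hφap : ∀ (g : N) (d : L.D), ((φ g d : L.D) : G) = g * d * (g : G)⁻¹ := fun g d => rfl
  have hker : ∀ g : N, φ g = 1 ↔ (g : G) ∈ L.D := by
    intro g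
    constructor
    · intro h
      refine L.centralizer_le (mem_centralizer_iff.2 fun d hd => ?_)
      have h1 := hφap g ⟨d, hd⟩
      rw [h] at h1
      change d = _ at h1
      conv_lhs => rw [h1]
      group
    · intro h
      refine MulEquiv.ext fun d => Subtype.ext ?_
      rw [hφap, L.comm h d.2, mul_inv_cancel_right]
      rfl
  have hPN : L.P ≤ N := inf_le_right
  have hDN : L.D ≤ N := le_normalizer
  have hkerc : Nat.card φ.ker = Nat.card L.D := by
    rw [show φ.ker = L.D.subgroupOf N from SetLike.ext fun g => by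
      rw [MonoidHom.mem_ker, hker, mem_subgroupOf]]
    exact Nat.card_congr (subgroupOfEquivOfLe hDN).toEquiv
  set A := φ.range
  set S := (L.P.subgroupOf N).map φ
  have hmemS : ∀ g : N, φ g ∈ S → (g : G) ∈ L.P := by
    rintro g ⟨p, hp, hpg⟩
    have h1 : φ (g * p⁻¹) = 1 := by rw [map_mul, map_inv, hpg, mul_inv_cancel]
    have h2 := L.lt.le ((hker _).1 h1)
    have h3 := mul_mem h2 (mem_subgroupOf.1 hp)
    simpa using h3
  have hSc : Nat.card S * Nat.card L.D = Nat.card L.P := by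
    rw [← Nat.card_congr (subgroupOfEquivOfLe hPN).toEquiv]
    have h2 := (φ.comp (L.P.subgroupOf N).subtype).ker.card_mul_index
    rw [Subgroup.index_ker, MonoidHom.range_comp, Subgroup.range_subtype] at h2
    have hk : Nat.card (φ.comp (L.P.subgroupOf N).subtype).ker = Nat.card L.D := by
      rw [← MonoidHom.comap_ker]
      exact (Nat.card_congr (subgroupOfEquivOfLe (show φ.ker ≤ L.P.subgroupOf N from fun g hg =>
        mem_subgroupOf.2 (L.lt.le ((hker g).1 hg)))).toEquiv).trans hkerc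
    rw [hk, mul_comm] at h2
    exact h2
  set m := L.P.relIndex N with hm
  have hNc : Nat.card N = Nat.card L.P * m := by
    rw [hm, ← Nat.card_congr (subgroupOfEquivOfLe hPN).toEquiv]
    exact (L.P.subgroupOf N).card_mul_index.symm
  have hmodd : Odd m := by
    rw [Nat.odd_iff, ← Nat.two_dvd_ne_zero]
    exact L.hsyl
  have hm1 : m ≠ 1 := fun h => L.hnon (L.P2.to_le (relIndex_eq_one.1 h))
  have hAc : Nat.card A * Nat.card L.D = Nat.card N := by
    have h := φ.ker.card_mul_index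
    rw [Subgroup.index_ker, hkerc, mul_comm] at h
    exact h
  have hDpos : 0 < Nat.card L.D := Nat.card_pos
  obtain ⟨z, hzD, hz1, hzC⟩ := L.exists_central
  have hkp : IsPGroup 2 φ.ker := by
    obtain ⟨k, hk⟩ := IsPGroup.iff_card.1 (C.hT.to_le L.hDT)
    exact IsPGroup.of_card (hkerc.trans hk)
  let E : ActData L.D :=
    { A := A
      S := S
      z := ⟨z, hzD⟩
      hSA := fun s hs => by
        obtain ⟨p, -, rfl⟩ := hs
        exact ⟨p, rfl⟩
      hS := (L.P2.comap_subtype).map φ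
      hstab := by
        rintro _ ⟨g, rfl⟩
        constructor
        · intro h
          have h1 := congrArg Subtype.val h
          rw [hφap] at h1
          have h2 : (g : G) ∈ centralizer ({z} : Set G) :=
            mem_centralizer_singleton_iff.2 (mul_inv_eq_iff_eq_mul.1 h1)
          rw [hzC] at h2
          exact ⟨g, mem_subgroupOf.2 (mem_inf.2 ⟨h2, g.2⟩), rfl⟩
        · intro h
          have h1 : (g : G) ∈ C.T := (mem_inf.1 (hmemS g h)).1
          rw [← hzC, mem_centralizer_singleton_iff] at h1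
          exact Subtype.ext (by rw [hφap]; exact mul_inv_eq_iff_eq_mul.2 h1)
      hcore := by
        intro M hMA hM hMn
        set R := (M.comap φ).map N.subtype with hR
        have hRp : IsPGroup 2 R := (hM.comap_of_ker_isPGroup φ hkp).map _
        have hDR : L.D ≤ R := fun d hd => ⟨⟨d, hDN hd⟩, by
          show φ _ ∈ M
          rw [(hker ⟨d, hDN hd⟩).2 hd]; exact one_mem _, rfl⟩
        have hRD := L.hrad R (map_subtype_le _) hRp hDR (by
          rintro g hg _ ⟨r, hr, rfl⟩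
          refine ⟨⟨g, hg⟩ * r * (⟨g, hg⟩ : N)⁻¹, ?_, rfl⟩
          show φ _ ∈ M
          rw [map_mul, map_mul, map_inv]
          exact hMn _ ⟨_, rfl⟩ _ hr)
        rw [eq_bot_iff]
        intro k hk
        obtain ⟨g, rfl⟩ := hMA hk
        rw [mem_bot, hker]
        exact hRD ⟨g, hk, rfl⟩
      hself := by
        rintro _ ⟨g, rfl⟩ hg
        refine ⟨g, mem_subgroupOf.2 (L.self_norm g.2 (mem_normalizer_of fun p hp => ?_)), rfl⟩
        have h := hg (φ ⟨p, hPN hp⟩) ⟨_, mem_subgroupOf.2 hp, rfl⟩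
        rw [← map_inv, ← map_mul, ← map_mul] at h
        have h2 := hmemS _ h
        simpa using h2
      m := m
      hm := hmodd
      hm1 := hm1
      hcard := Nat.eq_of_mul_eq_mul_right hDpos (by rw [hAc, hNc, ← hSc]; ring) }
  -- the conjugate of `D`
  obtain ⟨y, hyT, hyP, hyD⟩ := L.exists_y
  set D' := L.D.map (MulAut.conj y).toMonoidHom with hD'
  have hD'P : D' ≤ L.P := by
    rintro _ ⟨d, hd, rfl⟩
    exact conj_mem hyP (L.lt.le hd)
  have hD'c : Nat.card D' = Nat.card L.D := card_map_of_injective (MulAut.conj y).injective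
  have hD'ne : ¬ D' ≤ L.D := fun h => hyD (mem_normalizer_of fun d hd => h ⟨d, hd, rfl⟩)
  have hD'comm : ∀ a ∈ D', ∀ b ∈ D', a * b = b * a := by
    rintro _ ⟨a, ha, rfl⟩ _ ⟨b, hb, rfl⟩
    rw [← map_mul, L.comm ha hb, map_mul]
  have hPnD' : ∀ p ∈ L.P, ∀ e ∈ D', p * e * p⁻¹ ∈ D' := by
    rintro p hp _ ⟨d, hd, rfl⟩
    have hp' : y⁻¹ * p * y ∈ L.P := by simpa using conj_mem (inv_mem hyP) hp
    refine ⟨(y⁻¹ * p * y) * d * (y⁻¹ * p * y)⁻¹, conj_mem hp'.2 hd, ?_⟩
    show y * _ * y⁻¹ = p * (y * d * y⁻¹) * p⁻¹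
    group
  let D₁ : Subgroup L.D := D'.subgroupOf L.D
  let ψ : D' →* MulAut L.D := φ.comp (inclusion (hD'P.trans hPN))
  set V := ψ.range
  have hVS : V ≤ S := by
    rintro _ ⟨e, rfl⟩
    exact ⟨_, mem_subgroupOf.2 (hD'P e.2), rfl⟩
  have hV1 : V ≠ ⊥ := by
    intro h
    refine hD'ne fun e he => ?_
    have h1 : ψ ⟨e, he⟩ ∈ V := ⟨_, rfl⟩
    rw [h, mem_bot] at h1
    exact (hker _).1 h1
  have hVfix : ∀ v ∈ V, ∀ d ∈ D₁, v d = d := by
    rintro _ ⟨e, rfl⟩ d hd
    refine Subtype.ext ?_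
    show (e : G) * d * (e : G)⁻¹ = d
    rw [hD'comm e e.2 d (mem_subgroupOf.1 hd), mul_inv_cancel_right]
  have hVdisp : ∀ v ∈ V, ∀ d : L.D, d⁻¹ * v d ∈ D₁ := by
    rintro _ ⟨e, rfl⟩ d
    rw [mem_subgroupOf]
    show (d : G)⁻¹ * ((e : G) * d * (e : G)⁻¹) ∈ D'
    have h := hPnD' _ (inv_mem (L.lt.le d.2)) e e.2
    rw [inv_inv] at h
    have h' := mul_mem h (inv_mem e.2)
    simpa [mul_assoc] using h'
  have hVcard : Nat.card V = D₁.index := by
    have h1 := ψ.ker.card_mul_index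
    rw [Subgroup.index_ker, hD'c] at h1
    have h2 := D₁.card_mul_index
    have h3 : Nat.card ψ.ker = Nat.card D₁ := by
      refine Nat.card_congr ⟨fun e => ⟨⟨e.1.1, (hker _).1 e.2⟩, mem_subgroupOf.2 e.1.2⟩,
        fun d => ⟨⟨d.1.1, mem_subgroupOf.1 d.2⟩, (hker _).2 d.1.2⟩, fun e => rfl, fun d => rfl⟩
    rw [h3] at h1
    exact Nat.eq_of_mul_eq_mul_left Nat.card_pos (h1.trans h2.symm)
  -- orders
  obtain ⟨a, ha7, hac⟩ := card_dvd_128 C L.hDT
  obtain ⟨j, hj7, hjc⟩ := card_dvd_128 C (show L.P ≤ C.T from inf_le_left)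
  have hj : a < j ∧ j ≤ 6 := by
    have h1 := card_lt L.lt
    have h2 := card_lt (lt_of_le_of_ne (show L.P ≤ C.T from inf_le_left) L.P_ne)
    rw [hac, hjc] at h1
    rw [hjc, C.hcard] at h2
    have := (Nat.pow_lt_pow_iff_right (by norm_num)).1 h1
    have := (Nat.pow_lt_pow_iff_right (by norm_num)).1 h2
    omega
  have hS2 : Nat.card S = 2 ^ (j - a) := by
    refine Nat.eq_of_mul_eq_mul_right hDpos ?_
    rw [hSc, hjc, hac, ← pow_add, show j - a + a = j by omega]
  have ha4 : a ≤ 4 := by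
    have := L.card_D
    rw [hac, show (16 : ℕ) = 2 ^ 4 by norm_num] at this
    exact (Nat.pow_le_pow_iff_right (by norm_num)).1 this
  have hmlt : m < 2 ^ a := hac ▸ E.m_lt
  have hm3 : 3 ≤ m := by
    obtain ⟨k, hk⟩ := hmodd
    omega
  have ha2 : 2 ≤ a := by
    by_contra! h
    have := Nat.pow_le_pow_right (n := 2) (by norm_num) (show a ≤ 1 by omega)
    omega
  haveI : Fintype L.D := Fintype.ofFinite _
  have hD2 : IsPGroup 2 L.D := C.hT.to_le L.hDT
  have hi1 : j = a + 1 := by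
    by_contra hne
    rcases (show a = 2 ∨ a = 3 ∨ a = 4 by omega) with rfl | rfl | rfl
    · have h3 : m = 3 := by
        obtain ⟨k, hk⟩ := hmodd
        norm_num at hmlt
        omega
      have h6 := E.card_le_six h3
      rw [E.hcard] at h6
      change Nat.card S * m ≤ 6 at h6
      rw [hS2, h3] at h6
      have := Nat.pow_le_pow_right (n := 2) (by norm_num) (show 2 ≤ j - 2 by omega)
      omega
    · rcases (show j = 5 ∨ j = 6 by omega) with rfl | rfl
      · exact E.order_four hS2 (Or.inl hac) hD2 V hVS hV1 D₁ hVfix hVdisp hVcard (fun h => by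
          rw [hac] at h; norm_num at h)
      · exact E.order_eight hS2 hac
    · have hj6 : j = 6 := by omega
      subst hj6
      refine E.order_four hS2 (Or.inr hac) hD2 V hVS hV1 D₁ hVfix hVdisp hVcard
        (fun _ K₁ K₂ K₃ hb h12 h23 h3A => ?_)
      -- a chain of length eight in `N`
      let pre : Subgroup (MulAut L.D) → Subgroup G := fun K => (K.comap φ).map N.subtype
      have hmono : ∀ {K K' : Subgroup (MulAut L.D)}, K < K' → K' ≤ A → pre K < pre K' := by
        intro K K' h hK'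
        refine lt_of_le_of_ne (map_mono (comap_mono h.le)) fun he => h.ne ?_
        have he' := Subgroup.map_injective N.subtype_injective he
        refine le_antisymm h.le fun x hx => ?_
        obtain ⟨g, rfl⟩ := hK' hx
        have : g ∈ K'.comap φ := hx
        rw [← he'] at this
        exact this
      have h1 : L.D < pre K₁ := by
        refine lt_of_le_of_ne (fun d hd => ⟨⟨d, hDN hd⟩, ?_, rfl⟩) fun he => hb ?_
        · show φ _ ∈ K₁
          rw [(hker ⟨d, hDN hd⟩).2 hd]; exact one_mem _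
        · rw [eq_bot_iff]
          intro x hx
          obtain ⟨g, rfl⟩ := (h12.le.trans (h23.le.trans h3A.le)) hx
          rw [mem_bot, hker, he]
          exact ⟨g, hx, rfl⟩
      have h4 : pre K₃ < N := lt_of_lt_of_le (hmono h3A le_rfl) (map_subtype_le _)
      have hch : Chain N (4 + 1 + 1 + 1 + 1) := Chain.step h4 (Chain.step (hmono h23 h3A.le)
        (Chain.step (hmono h12 (h23.le.trans h3A.le)) (Chain.step h1 (Chain.of_card hac))))
      exact absurd (C.chain_le (C.normalizer_ne_top L.ne_bot L.hDT) hch) (by norm_num)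
  subst hi1
  rw [Nat.add_sub_cancel_left, pow_one] at hS2
  have hVeq : V = S := by
    refine eq_of_le_of_card_ge hVS ?_
    rw [hS2]
    haveI : Finite V := Finite.of_injective (inclusion (show V ≤ A from hVS.trans E.hSA))
      (inclusion_injective _)
    have : Nontrivial V := (Subgroup.nontrivial_iff_ne_bot V).2 hV1
    exact Finite.one_lt_card
  have hi : D₁.index = 2 := by rw [← hVcard, hVeq, hS2]
  have hD₁ : D₁ = L.D₀.subgroupOf L.D := by
    refine le_antisymm (fun d hd => mem_subgroupOf.2 (mem_inf.2 ⟨d.2, mem_centralizer_iff.2 fun p hp => ?_⟩))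
      fun d hd => ?_
    · have hpV : φ ⟨p, hPN hp⟩ ∈ V := hVeq.symm ▸ ⟨_, mem_subgroupOf.2 hp, rfl⟩
      have h1 := congrArg Subtype.val (hVfix _ hpV d hd)
      rw [hφap] at h1
      exact mul_inv_eq_iff_eq_mul.1 h1
    · by_contra hdn
      -- then `V` fixes everything
      refine hV1 (eq_bot_iff.2 ?_)
      rintro _ ⟨e, rfl⟩
      rw [mem_bot]
      refine MulEquiv.ext fun x => ?_
      have hfd : ψ e d = d := Subtype.ext (by
        show (e : G) * d * (e : G)⁻¹ = d
        have h1 : (e : G) * d = d * e := mem_centralizer_iff.1 (mem_subgroupOf.1 hd).2 e (hD'P e.2)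
        rw [h1, mul_inv_cancel_right])
      by_cases hx : x ∈ D₁
      · exact hVfix _ ⟨e, rfl⟩ x hx
      · have hxd : d⁻¹ * x ∈ D₁ := (mul_mem_iff_of_index_two hi).2
          (iff_of_false (fun h => hdn (inv_mem_iff.1 h)) hx)
        have h2 := hVfix _ ⟨e, rfl⟩ _ hxd
        rw [map_mul, map_inv, hfd] at h2
        exact mul_left_cancel h2
  have hD₁c : Nat.card D₁ = Nat.card L.D₀ := by
    rw [hD₁]; exact Nat.card_congr (subgroupOfEquivOfLe inf_le_left).toEquiv
  refine ⟨by rw [hjc, hac, pow_succ'], ?_, ?_, ?_⟩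
  · have h := D₁.card_mul_index
    rw [hi, hD₁c] at h
    omega
  · rw [hac]
    rcases (show a = 2 ∨ a = 3 ∨ a = 4 by omega) with rfl | rfl | rfl <;> norm_num
  intro _
  haveI : Finite V := Finite.of_injective (inclusion (show V ≤ A from hVS.trans E.hSA))
    (inclusion_injective _)
  have hVc : Nat.card V = 2 := by rw [hVeq, hS2]
  obtain ⟨⟨v, hvV⟩, hvo⟩ := exists_prime_orderOf_dvd_card' (G := V) 2 (by rw [hVc])
  rw [Subgroup.orderOf_mk] at hvo
  have hVv : zpowers v = V := eq_of_le_of_card_ge (zpowers_le.2 hvV)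
    (by rw [hVc, Nat.card_zpowers, hvo])
  have hvv : v * v = 1 := by rw [← pow_two, ← hvo, pow_orderOf_eq_one]
  obtain ⟨w, hwD₁, hww, hw0, hsq, hdisp⟩ := reflect hD2 A v (E.hSA (hVS hvV)) hvv
    (fun h => by rw [h, orderOf_one] at hvo; omega) hmodd hm1
    (by
      have := E.hcard
      change Nat.card A = Nat.card S * m at this
      rw [this, hS2])
    (fun a ha hav => by
      have haS : a ∈ S := E.hself a ha fun s hs => by
        change s ∈ S at hs
        rw [← hVeq, ← hVv] at hs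
        obtain ⟨k, rfl⟩ := mem_zpowers_iff.1 hs
        rw [(Commute.zpow_right (hav : Commute a v) k).eq, mul_inv_cancel_right]
        exact hVS (hVv ▸ zpow_mem (mem_zpowers v) k)
      rw [← hVeq, ← hVv] at haS
      obtain ⟨k, rfl⟩ := mem_zpowers_iff.1 haS
      rcases Int.even_or_odd' k with ⟨i, rfl | rfl⟩
      · left; rw [zpow_mul, zpow_two, hvv, one_zpow]
      · right; rw [zpow_add, zpow_mul, zpow_two, hvv, one_zpow, one_mul, zpow_one])
    D₁ (hVfix v hvV) hi
  obtain ⟨e, he⟩ := hvV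
  have hv' : ∀ x : L.D, ((v x : L.D) : G) = (e : G) * x * (e : G)⁻¹ := fun x => by rw [← he]; rfl
  have hcoe : ((w⁻¹ * v w : L.D) : G) = (w : G)⁻¹ * ((e : G) * w * (e : G)⁻¹) := by
    rw [Subgroup.coe_mul, Subgroup.coe_inv, hv']
  have hmem : ∀ {x : L.D}, x ∈ D₁ ↔ (x : G) ∈ L.D₀ := fun {x} => by rw [hD₁, mem_subgroupOf]
  refine ⟨w, w.2, fun h => hwD₁ (hmem.2 h), congrArg Subtype.val hww, e, (hD'P e.2).1,
    ?_, ?_, ?_, ?_⟩
  · rw [← hcoe]; exact hmem.1 (hVdisp v ⟨e, he⟩ w)
  · rw [← hcoe]; exact fun h => hw0 (Subtype.ext h)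
  · intro d hd h
    rw [← hcoe] at h
    exact hsq ⟨d, hd⟩ (Subtype.ext h)
  · intro g hg d hd
    have h := mem_map_of_mem L.D.subtype (hdisp (φ ⟨g, hg⟩) ⟨_, rfl⟩ ⟨d, hd⟩)
    rw [MonoidHom.map_closure, Set.image_insert_eq, Set.image_singleton] at h
    rw [← hcoe]
    exact h

end H70.Len8
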