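import Cfsg.Agent.H70.Len8.Frat
import Cfsg.Agent.H70.Len8.Local
import Cfsg.Agent.H85.Alperin
import Cfsg.Agent.H86.Sylow
import Cfsg.Agent.H85.GroupSystem
import Cfsg.Agent.H87.Essential
import Mathlib.GroupTheory.Focal

/-!
Alperin: some essential subgroup displaces an element out of any proper normal subgroup of `T`.
-/

set_option autoImplicit false
set_option linter.style.haveILetI false
set_option linter.unusedSectionVars false

namespace H70.Len8

open Subgroup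
open scoped commutatorElement

variable {G : Type*} [Group G] [Finite G] (C : Ctx G)

/-- `T` as a Sylow subgroup. -/
def Ctx.sylow : Sylow 2 G :=
  haveI : Fact (Nat.Prime 2) := ⟨Nat.prime_two⟩
  C.hT.toSylow C.hsyl

theorem Ctx.sylow_coe : (C.sylow : Subgroup G) = C.T := rfl

theorem Ctx.exists_loc {E : Subgroup G}
    (hE : (Cfsg.groupFusionSystem C.T).IsEssential 2 E) : ∃ L : Loc C, L.D = E := by
  haveI : Fact (Nat.Prime 2) := ⟨Nat.prime_two⟩
  set F := Cfsg.groupFusionSystem C.T with hF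
  have hET : E ≤ C.T := hE.1.1
  have hcen : ∀ x ∈ C.T, (∀ d ∈ E, d * x = x * d) → x ∈ E := fun x hx h =>
    H87.essential_centric hE hx h
  have hCE : centralizer (E : Set G) ≤ E := by
    obtain ⟨z, hz, -, -, hzc, hzC⟩ := C.exists_z
    have hzE : z ∈ E := hcen z hz fun d hd => hzc d (hET hd)
    intro x hx
    refine hcen x ?_ fun d hd => mem_centralizer_iff.1 hx d hd
    rw [← hzC, mem_centralizer_singleton_iff]
    exact (mem_centralizer_iff.1 hx z hzE).symm
  -- some automorphism is not inner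
  have hsome : ∃ α ∈ F.autGroup E, α ∉ Cfsg.Inn E := by
    obtain ⟨hn, Y, hY⟩ := hE.2.2
    by_contra! hall
    haveI := hn
    have hall' : (Cfsg.Inn E).subgroupOf (F.autGroup E) = ⊤ := subgroupOf_eq_top.2 hall
    have h1 := hY.1
    rw [show Nat.card (↥(F.autGroup E) ⧸ (Cfsg.Inn E).subgroupOf (F.autGroup E)) = 1 from by
      rw [← Subgroup.index_eq_card, hall', index_top]] at h1
    exact absurd h1 (by norm_num)
  have haut : ∀ α ∈ F.autGroup E, ∃ g : G, g ∈ normalizer (E : Set G) ∧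
      ∀ x : E, (α x : G) = g * x * g⁻¹ := by
    intro α hα
    obtain ⟨-, -, g, hg⟩ := (H85.mem_autGroup hET).1 hα
    refine ⟨g, mem_normalizer_of fun x hx => ?_, hg⟩
    have h1 : (α ⟨x, hx⟩ : G) = g * x * g⁻¹ := hg ⟨x, hx⟩
    exact h1 ▸ (α ⟨x, hx⟩).2
  have hne : E ≠ C.T := by
    intro h
    obtain ⟨α, hα, hαi⟩ := hsome
    obtain ⟨g, hgN, hg⟩ := haut α hα
    rw [h, C.normalizer_T, ← h] at hgN
    exact hαi ⟨⟨g, hgN⟩, MulEquiv.ext fun x => Subtype.ext (hg x).symm⟩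
  set N := normalizer (E : Set G) with hN
  set P := C.T ⊓ N
  -- fully normalised
  have hsyl : ¬ 2 ∣ P.relIndex N := by
    have hPN : P ≤ N := inf_le_right
    obtain ⟨R, hR⟩ := ((C.hT.to_le (show P ≤ C.T from inf_le_left)).comap_subtype
      (K := N)).exists_le_sylow
    obtain ⟨h, hh⟩ := H86.exists_conj_le_sylow C.sylow (R.2.map N.subtype)
    have hER : E ≤ (R : Subgroup N).map N.subtype := fun e he =>
      ⟨⟨e, le_normalizer he⟩, hR (show (e : G) ∈ P from mem_inf.2 ⟨hET he, le_normalizer he⟩), rfl⟩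
    set E' := E.map (MulAut.conj h).toMonoidHom with hE'
    have hE'T : E' ≤ C.T := by
      rintro _ ⟨e, he, rfl⟩
      exact hh e (hER he)
    have hconj : F.IsConj E E' := by
      refine ⟨(MulAut.conj h).toMonoidHom.comp E.subtype, ⟨hET, fun x => hh x (hER x.2), h, fun x => rfl⟩, ?_⟩
      rw [MonoidHom.range_comp, Subgroup.range_subtype]
    have hcard := hE.2.1.2 E' hconj
    have hle : ((R : Subgroup N).map N.subtype).map (MulAut.conj h).toMonoidHom ≤
        Cfsg.FusionSystem.normalizerIn C.T E' := by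
      rintro _ ⟨r, hr, rfl⟩
      obtain ⟨r', hr', rfl⟩ := hr
      refine H85.mem_normalizerIn.2 ⟨hh _ ⟨r', hr', rfl⟩, mem_normalizer_of ?_⟩
      rintro _ ⟨e, he, rfl⟩
      refine ⟨(r' : G) * e * (r' : G)⁻¹, conj_mem r'.2 he, ?_⟩
      show h * ((r' : G) * e * (r' : G)⁻¹) * h⁻¹ = h * r' * h⁻¹ * (h * e * h⁻¹) * (h * r' * h⁻¹)⁻¹
      group
    have h1 := card_le_of_le hle
    rw [card_map_of_injective (MulAut.conj h).injective,
      card_map_of_injective N.subtype_injective] at h1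
    have hPc : Nat.card P ≤ Nat.card (R : Subgroup N) := by
      rw [← Nat.card_congr (subgroupOfEquivOfLe hPN).toEquiv]
      exact card_le_of_le hR
    have heq : P.subgroupOf N = (R : Subgroup N) := eq_of_le_of_card_ge hR (by
      rw [Nat.card_congr (subgroupOfEquivOfLe hPN).toEquiv]
      exact h1.trans hcard)
    show ¬ 2 ∣ (P.subgroupOf N).index
    rw [heq]
    exact R.not_dvd_index
  have hind : ∀ g ∈ N, ∀ α : MulAut E, (∀ x : E, (α x : G) = g * x * g⁻¹) → α ∈ F.autGroup E := by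
    intro g hg α h
    refine (H85.mem_autGroup hET).2 ⟨hET, fun x => ?_, g, fun x => ?_⟩
    · exact hET (α x).2
    · exact h x
  have hmemE : ∀ g ∈ N, ∀ α : MulAut E, (∀ x : E, (α x : G) = g * x * g⁻¹) → α ∈ Cfsg.Inn E →
      g ∈ E := by
    rintro g - α h ⟨e, rfl⟩
    have h1 : (e : G)⁻¹ * g ∈ centralizer (E : Set G) := mem_centralizer_iff.2 fun x hx => by
      have h2 : (e : G) * x * (e : G)⁻¹ = g * x * g⁻¹ := h ⟨x, hx⟩
      calc x * ((e : G)⁻¹ * g) = (e : G)⁻¹ * ((e : G) * x * (e : G)⁻¹) * g := by group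
        _ = (e : G)⁻¹ * g * x := by rw [h2]; group
    have := mul_mem e.2 (hCE h1)
    rwa [mul_inv_cancel_left] at this
  have hrad : ∀ R : Subgroup G, R ≤ N → IsPGroup 2 R → E ≤ R →
      (∀ g ∈ N, ∀ r ∈ R, g * r * g⁻¹ ∈ R) → R ≤ E := by
    intro R hRN hR _ hRn r hr
    set ψ : R →* MulAut E := E.normalizerMonoidHom.comp (inclusion hRN)
    have hψ : ∀ (r : R) (x : E), ((ψ r x : E) : G) = r * x * (r : G)⁻¹ := fun r x => rfl
    have hHp : IsPGroup 2 ψ.range := hR.of_surjective ψ.rangeRestrict ψ.rangeRestrict_surjective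
    refine hmemE r (hRN hr) (ψ ⟨r, hr⟩) (hψ ⟨r, hr⟩) ?_
    refine H87.essential_mem_inn hE ψ.range (hHp.to_le inf_le_left) ?_ ⟨_, rfl⟩
      (hind r (hRN hr) _ (hψ ⟨r, hr⟩))
    rintro a ha _ ⟨s, rfl⟩ -
    obtain ⟨g, hgN, hg⟩ := haut a ha
    refine ⟨⟨g * s * g⁻¹, hRn g hgN s s.2⟩, MulEquiv.ext fun x => Subtype.ext ?_⟩
    have e1 : ((a⁻¹ x : E) : G) = g⁻¹ * x * g := by
      have h2 := hg (a⁻¹ x)
      rw [MulAut.apply_inv_self] at h2
      rw [h2]; group
    rw [hψ, MulAut.mul_apply, MulAut.mul_apply, hg, hψ, e1]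
    group
  have hnon : ¬ IsPGroup 2 N := fun hp => by
    obtain ⟨α, hα, hαi⟩ := hsome
    obtain ⟨g, hgN, hg⟩ := haut α hα
    have := hrad N le_rfl hp le_normalizer (fun a ha b hb => mul_mem (mul_mem ha hb) (inv_mem ha)) hgN
    exact hαi ⟨⟨g, this⟩, MulEquiv.ext fun x => Subtype.ext (hg x).symm⟩
  exact ⟨⟨E, hET, hne, hcen, hsyl, hnon, hrad⟩, rfl⟩

theorem Ctx.exists_disp {M : Subgroup G} (hM : M ≤ C.T) (hne : M ≠ C.T)
    (hcomm : ∀ a ∈ C.T, ∀ b ∈ C.T, a * b * a⁻¹ * b⁻¹ ∈ M) :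
    ∃ L : Loc C, ∃ g ∈ normalizer (L.D : Set G), ∃ d ∈ L.D, d⁻¹ * (g * d * g⁻¹) ∉ M := by
  haveI : Fact (Nat.Prime 2) := ⟨Nat.prime_two⟩
  by_contra! hall
  set F := Cfsg.groupFusionSystem C.T with hF
  have hconj : ∀ u ∈ C.T, ∀ x ∈ C.T, x⁻¹ * (u * x * u⁻¹) ∈ M := fun u hu x hx => by
    have h := hcomm x⁻¹ (inv_mem hx) u hu
    rw [inv_inv] at h
    convert h using 1
    group
  let F₀ : Cfsg.FusionSystem C.T :=
    { Hom := fun R => {φ | φ ∈ F.Hom R ∧ ∀ x : R, (x : G)⁻¹ * φ x ∈ M}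
      le_of_mem := fun h => F.le_of_mem h.1
      injective_of_mem := fun h => F.injective_of_mem h.1
      conj_mem := by
        intro R u hR hu
        refine ⟨F.conj_mem hR hu, fun x => ?_⟩
        rw [H85.conjHom_apply]
        exact hconj u hu x (hR x.2)
      comp_mem := by
        intro R R' φ ψ hφ hψ h
        refine ⟨F.comp_mem hφ.1 hψ.1 h, fun x => ?_⟩
        have := mul_mem (hφ.2 x) (hψ.2 ⟨φ x, h x⟩)
        rwa [mul_assoc, mul_inv_cancel_left] at this
      inv_mem := by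
        intro R φ hφ
        obtain ⟨ψ, hψ, hψi⟩ := F.inv_mem hφ.1
        refine ⟨ψ, ⟨hψ, ?_⟩, hψi⟩
        rintro ⟨_, x, rfl⟩
        rw [hψi x]
        have := inv_mem (hφ.2 x)
        rwa [mul_inv_rev, inv_inv] at this }
  have hle : F ≤ F₀ := by
    refine H85.le_of_essential C.hT (H85.isSaturated_groupFusionSystem C.sylow) F₀ ?_
    intro R hR α hα
    have hRT : R ≤ C.T := by
      rcases hR with rfl | hR
      exacts [le_rfl, hR.1.1]
    refine subset_closure ⟨(H85.mem_autGroup hRT).1 hα, fun x => ?_⟩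
    obtain ⟨-, -, g, hg⟩ := (H85.mem_autGroup hRT).1 hα
    have hgx : (α x : G) = g * x * g⁻¹ := hg x
    show (x : G)⁻¹ * (α x : G) ∈ M
    rw [hgx]
    have hgN : g ∈ normalizer (R : Set G) := mem_normalizer_of fun y hy => by
      have h1 : (α ⟨y, hy⟩ : G) = g * y * g⁻¹ := hg ⟨y, hy⟩
      exact h1 ▸ (α ⟨y, hy⟩).2
    rcases hR with rfl | hR
    · rw [C.normalizer_T] at hgN
      exact hconj g hgN x (hRT x.2)
    · obtain ⟨L, rfl⟩ := C.exists_loc hR
      exact hall L g hgN x x.2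
  refine hne (le_antisymm hM ?_)
  have htop : C.T ≤ (C.T : Subgroup G) ⊓ _root_.commutator G := by
    rw [C.hperf, inf_top_eq]
  refine htop.trans ?_
  have hfoc : (C.sylow : Subgroup G) ⊓ _root_.commutator G ≤ M := by
    rw [inf_comm, Subgroup.commutator_inf_eq_focalSubgroup, focalSubgroup_def, closure_le]
    rintro _ ⟨hmem, b, hb, u, rfl⟩
    have hb' : b⁻¹ ∈ C.T := inv_mem hb
    have hub : u * b⁻¹ * u⁻¹ ∈ C.T := by
      have h1 := C.T.mul_mem (C.T.inv_mem hb) (show ⁅b, u⁆ ∈ C.T from hmem)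
      rwa [show b⁻¹ * ⁅b, u⁆ = u * b⁻¹ * u⁻¹ by simp only [commutatorElement_def]; group] at h1
    have hφ : Cfsg.conjHom (zpowers b⁻¹) u ∈ F.Hom (zpowers b⁻¹) := by
      refine ⟨zpowers_le.2 hb', fun z => ?_, u, fun z => rfl⟩
      obtain ⟨k, hk⟩ := mem_zpowers_iff.1 z.2
      show u * (z : G) * u⁻¹ ∈ C.T
      rw [← hk, ← conj_zpow]
      exact zpow_mem hub k
    have h := (hle _ hφ).2 ⟨b⁻¹, mem_zpowers _⟩
    rw [H85.conjHom_apply] at h
    rw [show ⁅b, u⁆ = (b⁻¹)⁻¹ * (u * b⁻¹ * u⁻¹) by simp only [commutatorElement_def]; group]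
    exact h
  exact hfoc

end H70.Len8
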