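import Cfsg.Agent.H70.Len8.Count
import Cfsg.Agent.H70.Len8.Essential

/-!
Some essential subgroup has order four.
-/

set_option autoImplicit false
set_option linter.style.haveILetI false
set_option linter.unusedSectionVars false

namespace H70.Len8

open Subgroup

variable {G : Type*} [Group G] [Finite G]

theorem Ctx.exists_four (C : Ctx G) : ∃ L : Loc C, Nat.card L.D < 8 := by
  classical
  by_contra! hbig
  have hget : ∀ M : Subgroup G, M ≤ C.T → C.Φ ≤ M → M ≠ C.T → ∃ Ge : Gen C, Ge.x ∉ M := by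
    intro M hM hΦ hne
    obtain ⟨L, g, hg, d, hd, h⟩ := C.exists_disp hM hne fun a ha b hb => hΦ (C.comm_mem ha hb)
    obtain ⟨Ge, hx⟩ := exists_gen L (hbig L) hg hd (fun h' => h (hΦ h'))
    exact ⟨Ge, by rw [hx]; exact h⟩
  have hT : ∀ Ge : Gen C, Ge.x ∈ C.T := fun Ge => Ge.L.hDT Ge.hxD
  have hΦne : C.Φ ≠ C.T := fun h => by
    refine C.T_ne_bot (C.nongen bot_le ?_).symm
    rw [bot_sup_eq, h]
  obtain ⟨G₁, h1⟩ := hget C.Φ C.Φ_le le_rfl hΦne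
  set M₁ := C.Φ ⊔ zpowers G₁.x with hM₁
  have hM₁T : M₁ ≤ C.T := sup_le C.Φ_le (zpowers_le.2 (hT G₁))
  have htwo : ∀ Ga Gb : Gen C, C.Φ ⊔ zpowers Ga.x ⊔ zpowers Gb.x = C.T → False := by
    intro Ga Gb h
    refine not_two_gen Ga.L Ga.hbig (hT Ga) (hT Gb) Ga.hxx Gb.hxx ?_
    have hle : zpowers Ga.x ⊔ zpowers Gb.x ≤ C.T :=
      sup_le (zpowers_le.2 (hT Ga)) (zpowers_le.2 (hT Gb))
    rw [← C.nongen hle (by rw [← h, sup_assoc C.Φ, sup_comm C.Φ])]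
    exact sup_le (zpowers_le.2 (subset_closure (Or.inl rfl))) (zpowers_le.2 (subset_closure (Or.inr rfl)))
  have hM₁ne : M₁ ≠ C.T := fun h => htwo G₁ G₁ (by rw [sup_assoc, sup_idem]; exact h)
  obtain ⟨G₂, h2⟩ := hget M₁ hM₁T le_sup_left hM₁ne
  set M₂ := M₁ ⊔ zpowers G₂.x with hM₂
  have hM₂T : M₂ ≤ C.T := sup_le hM₁T (zpowers_le.2 (hT G₂))
  have hM₂ne : M₂ ≠ C.T := htwo G₁ G₂
  obtain ⟨G₃, h3⟩ := hget M₂ hM₂T (le_sup_left.trans le_sup_left) hM₂ne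
  set M₃ := M₂ ⊔ zpowers G₃.x with hM₃
  have hM₃T : M₃ ≤ C.T := sup_le hM₂T (zpowers_le.2 (hT G₃))
  have hx1 : G₁.x ∈ M₁ := mem_sup_right (mem_zpowers _)
  have hx2 : G₂.x ∈ M₂ := mem_sup_right (mem_zpowers _)
  have hx12 : G₁.x ∈ M₂ := mem_sup_left hx1
  have hx3 : G₃.x ∈ M₃ := mem_sup_right (mem_zpowers _)
  have hΦ1 : C.Φ ≤ M₁ := le_sup_left
  have hΦ2 : C.Φ ≤ M₂ := hΦ1.trans le_sup_left
  have hΦ3 : C.Φ ≤ M₃ := hΦ2.trans le_sup_left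
  have hdisj : ∀ {Ga Gb : Gen C} {M : Subgroup G}, C.Φ ≤ M → Ga.x ∈ M → Gb.x ∉ M →
      ∀ p, p ∈ Ga.A → p ∈ Gb.A → False := by
    intro Ga Gb M hΦ ha hb p hp hq
    refine hb ?_
    have := mul_mem ha (hΦ (Gen.congr Gb Ga hq hp))
    rwa [mul_inv_cancel_left] at this
  have hM₃eq : M₃ = C.T := by
    by_contra hne
    obtain ⟨G₄, h4⟩ := hget M₃ hM₃T hΦ3 hne
    -- four disjoint sets of 32 elements in `T ∖ 1`
    have hsub : G₁.A ∪ G₂.A ∪ G₃.A ∪ G₄.A ⊆ (C.T : Set G) \ {1} := by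
      rintro p (((h | h) | h) | h) <;> exact ⟨(Gen.A_le _ h).1, (Gen.A_le _ h).2⟩
    have hd1 : Disjoint G₁.A G₂.A := Set.disjoint_left.2 (hdisj hΦ1 hx1 h2)
    have hd2 : Disjoint (G₁.A ∪ G₂.A) G₃.A := Set.disjoint_left.2 fun p hp hq =>
      hp.elim (fun h => hdisj hΦ2 hx12 h3 p h hq) (fun h => hdisj hΦ2 hx2 h3 p h hq)
    have hd3 : Disjoint (G₁.A ∪ G₂.A ∪ G₃.A) G₄.A := Set.disjoint_left.2 fun p hp hq =>
      hp.elim (fun h => h.elim (fun h => hdisj hΦ3 (mem_sup_left hx12) h4 p h hq)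
        (fun h => hdisj hΦ3 (mem_sup_left hx2) h4 p h hq)) (fun h => hdisj hΦ3 hx3 h4 p h hq)
    have hle := Set.ncard_le_ncard hsub (Set.toFinite _)
    rw [Set.ncard_union_eq hd3, Set.ncard_union_eq hd2, Set.ncard_union_eq hd1,
      Set.ncard_diff_singleton_of_mem (one_mem C.T : (1 : G) ∈ (C.T : Set G))] at hle
    have c1 := G₁.card_A
    have c2 := G₂.card_A
    have c3 := G₃.card_A
    have c4 := G₄.card_A
    rw [Nat.card_coe_set_eq] at c1 c2 c3 c4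
    rw [← Nat.card_coe_set_eq (C.T : Set G)] at hle
    have hc : Nat.card (C.T : Set G) = 2 ^ 7 := C.hcard
    rw [hc] at hle
    omega
  have h16 : Nat.card C.Φ = 16 := by
    have e1 := C.sup_card le_rfl C.Φ_le (hT G₁) h1
    have e2 := C.sup_card hΦ1 hM₁T (hT G₂) h2
    have e3 := C.sup_card hΦ2 hM₂T (hT G₃) h3
    rw [← hM₁] at e1
    rw [← hM₂, e1] at e2
    rw [← hM₃, hM₃eq, C.hcard, e2] at e3
    omega
  obtain ⟨f1, c₁, hc1, hc1Φ, g1⟩ := G₁.full h16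
  obtain ⟨f2, c₂, hc2, hc2Φ, g2⟩ := G₂.full h16
  obtain ⟨f3, c₃, hc3, hc3Φ, g3⟩ := G₃.full h16
  -- products of two of the involutions centralise `Φ`
  have hcomm : ∀ {Ga Gb : Gen C}, (∀ φ ∈ C.Φ, Ga.x * φ ∈ Ga.A ∧ Ga.x * φ * (Ga.x * φ) = 1) →
      (∀ φ ∈ C.Φ, Gb.x * φ ∈ Gb.A ∧ Gb.x * φ * (Gb.x * φ) = 1) →
      ∀ φ ∈ C.Φ, φ * (Ga.x * Gb.x) = Ga.x * Gb.x * φ := by
    intro Ga Gb ha hb φ hφ
    have key : ∀ {Gc : Gen C}, (∀ φ ∈ C.Φ, Gc.x * φ ∈ Gc.A ∧ Gc.x * φ * (Gc.x * φ) = 1) →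
        ∀ ψ ∈ C.Φ, ψ * Gc.x = Gc.x * ψ⁻¹ := by
      intro Gc hc ψ hψ
      have h := eq_inv_of_mul_eq_one_left (hc ψ hψ).2
      rw [mul_inv_rev, inv_eq_of_mul_eq_one_right Gc.hxx] at h
      have h' : Gc.x * ψ = ψ⁻¹ * Gc.x := h
      calc ψ * Gc.x = ψ * (ψ⁻¹ * Gc.x * ψ⁻¹) := by rw [← h', mul_inv_cancel_right]
        _ = Gc.x * ψ⁻¹ := by group
    calc φ * (Ga.x * Gb.x) = (φ * Ga.x) * Gb.x := by group
      _ = Ga.x * (φ⁻¹ * Gb.x) := by rw [key ha φ hφ, mul_assoc]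
      _ = Ga.x * (Gb.x * φ) := by rw [key hb φ⁻¹ (inv_mem hφ), inv_inv]
      _ = Ga.x * Gb.x * φ := by group
  -- such a product is in no `A`
  have hnA : ∀ {Ga Gb Gc : Gen C}, (∀ φ ∈ C.Φ, φ * (Ga.x * Gb.x) = Ga.x * Gb.x * φ) →
      Ga.x * Gb.x ∉ C.Φ → Ga.x * Gb.x ∈ Gc.A → False := by
    intro Ga Gb Gc hc hn hA
    set p := Ga.x * Gb.x
    have hpT : p ∈ C.T := mul_mem (hT Ga) (hT Gb)
    have hle : C.Φ ⊔ zpowers p ≤ centralizer ({p} : Set G) :=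
      sup_le (fun φ hφ => mem_centralizer_singleton_iff.2 (hc φ hφ))
        (zpowers_le.2 (mem_centralizer_singleton_iff.2 rfl))
    have h := Gc.A_cent hA (C.Φ ⊔ zpowers p) (sup_le C.Φ_le (zpowers_le.2 hpT))
      fun k hk => mem_centralizer_singleton_iff.1 (hle hk)
    rw [C.sup_card le_rfl C.Φ_le hpT hn, h16] at h
    omega
  have n12 : G₁.x * G₂.x ∉ M₁ := fun h => h2 (by
    have := mul_mem (inv_mem hx1) h
    rwa [inv_mul_cancel_left] at this)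
  have n13 : G₁.x * G₃.x ∉ M₂ := fun h => h3 (by
    have := mul_mem (inv_mem hx12) h
    rwa [inv_mul_cancel_left] at this)
  have p12 : ∀ Gc : Gen C, G₁.x * G₂.x ∉ Gc.A := fun Gc =>
    hnA (hcomm f1 f2) (fun h => n12 (hΦ1 h))
  have p13 : ∀ Gc : Gen C, G₁.x * G₃.x ∉ Gc.A := fun Gc =>
    hnA (hcomm f1 f3) (fun h => n13 (hΦ2 h))
  -- nine cosets of `Φ` in `T`
  let u : Fin 9 → C.T := ![1, ⟨_, hT G₁⟩, ⟨_, hT G₂⟩, ⟨_, hT G₃⟩,
    ⟨G₁.x * c₁, mul_mem (hT G₁) (G₁.L.hDT hc1.1)⟩, ⟨G₂.x * c₂, mul_mem (hT G₂) (G₂.L.hDT hc2.1)⟩,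
    ⟨G₃.x * c₃, mul_mem (hT G₃) (G₃.L.hDT hc3.1)⟩, ⟨_, mul_mem (hT G₁) (hT G₂)⟩,
    ⟨_, mul_mem (hT G₁) (hT G₃)⟩]
  have hidx : (C.Φ.subgroupOf C.T).index = 8 := by
    have h := (C.Φ.subgroupOf C.T).card_mul_index
    rw [Nat.card_congr (subgroupOfEquivOfLe C.Φ_le).toEquiv, h16, C.hcard] at h
    omega
  haveI : Fintype (C.T ⧸ C.Φ.subgroupOf C.T) := Fintype.ofFinite _
  obtain ⟨i, j, hij, he⟩ := Fintype.exists_ne_map_eq_of_card_lt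
    (fun k => ((u k : C.T) : C.T ⧸ C.Φ.subgroupOf C.T)) (by
      rw [Fintype.card_fin, ← Nat.card_eq_fintype_card]
      change (C.Φ.subgroupOf C.T).index < 9
      omega)
  wlog hlt : i < j generalizing i j
  · exact this j i (Ne.symm hij) he.symm (lt_of_le_of_ne (not_lt.1 hlt) (Ne.symm hij))
  have hc : ((u i : C.T) : G)⁻¹ * (u j : C.T) ∈ C.Φ := by
    have h := QuotientGroup.eq.1 he
    rwa [mem_subgroupOf] at h
  have inA : ∀ {Gc : Gen C} {a b : G}, (∀ φ ∈ C.Φ, a * φ ∈ Gc.A) → a⁻¹ * b ∈ C.Φ → b ∈ Gc.A := by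
    intro Gc a b h hb
    have := h _ hb
    rwa [mul_inv_cancel_left] at this
  have selfA : ∀ {Gc : Gen C} {a : G}, (∀ φ ∈ C.Φ, a * φ ∈ Gc.A) → a ∈ Gc.A := by
    intro Gc a h
    have := h 1 (one_mem _)
    rwa [mul_one] at this
  have notone : ∀ {Gc : Gen C} {a : G}, (∀ φ ∈ C.Φ, a * φ ∈ Gc.A) → (1 : G)⁻¹ * a ∈ C.Φ → False := by
    intro Gc a h ha
    have := h a⁻¹ (inv_mem (by simpa using ha))
    rw [mul_inv_cancel] at this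
    exact (Gc.A_le this).2 rfl
  have F1 : ∀ φ ∈ C.Φ, G₁.x * φ ∈ G₁.A := fun φ h => (f1 φ h).1
  have F2 : ∀ φ ∈ C.Φ, G₂.x * φ ∈ G₂.A := fun φ h => (f2 φ h).1
  have F3 : ∀ φ ∈ C.Φ, G₃.x * φ ∈ G₃.A := fun φ h => (f3 φ h).1
  fin_cases i <;> fin_cases j <;> simp (config := { decide := true }) at hlt <;>
    dsimp [u] at hc <;>
    first
    | exact notone F1 hc | exact notone F2 hc | exact notone F3 hc
    | exact notone g1 hc | exact notone g2 hc | exact notone g3 hc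
    | exact n12 (hΦ1 (by simpa using hc)) | exact n13 (hΦ2 (by simpa using hc))
    | exact hdisj hΦ1 hx1 h2 _ (inA F1 hc) (selfA F2)
    | exact hdisj hΦ2 hx12 h3 _ (inA F1 hc) (selfA F3)
    | exact hdisj hΦ2 hx2 h3 _ (inA F2 hc) (selfA F3)
    | exact hdisj hΦ1 hx1 h2 _ (inA F1 hc) (selfA g2)
    | exact hdisj hΦ2 hx12 h3 _ (inA F1 hc) (selfA g3)
    | exact hdisj hΦ2 hx2 h3 _ (inA F2 hc) (selfA g3)
    | exact hdisj hΦ1 hx1 h2 _ (selfA g1) (inA F2 hc)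
    | exact hdisj hΦ2 hx12 h3 _ (selfA g1) (inA F3 hc)
    | exact hdisj hΦ2 hx2 h3 _ (selfA g2) (inA F3 hc)
    | exact hdisj hΦ1 hx1 h2 _ (inA g1 hc) (selfA g2)
    | exact hdisj hΦ2 hx12 h3 _ (inA g1 hc) (selfA g3)
    | exact hdisj hΦ2 hx2 h3 _ (inA g2 hc) (selfA g3)
    | exact hc1Φ (by simpa using hc) | exact hc2Φ (by simpa using hc) | exact hc3Φ (by simpa using hc)
    | exact p12 _ (inA F1 hc) | exact p12 _ (inA F2 hc) | exact p12 _ (inA F3 hc)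
    | exact p12 _ (inA g1 hc) | exact p12 _ (inA g2 hc) | exact p12 _ (inA g3 hc)
    | exact p13 _ (inA F1 hc) | exact p13 _ (inA F2 hc) | exact p13 _ (inA F3 hc)
    | exact p13 _ (inA g1 hc) | exact p13 _ (inA g2 hc) | exact p13 _ (inA g3 hc)
    | (refine n13 ?_
       have h' := mul_mem hx12 hx2
       have := mul_mem h' (hΦ2 hc)
       rwa [mul_inv_cancel_left] at this)

end H70.Len8
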