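import Mathlib.GroupTheory.Sylow
import Mathlib.GroupTheory.IndexNormal
import Mathlib.GroupTheory.Subgroup.Simple
import Mathlib.Order.Fin.Tuple
import Mathlib.Logic.Equiv.Fin.Basic

/-!
Chains of subgroups and the basic data of a simple group of length eight with Sylow `2`-subgroup
of order `2^7`.
-/

set_option autoImplicit false
set_option linter.style.haveILetI false
set_option linter.unusedSectionVars false

namespace H70.Len8

open Subgroup

variable {G : Type*} [Group G]

/-- `X` has a chain of length `n` below it. -/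
inductive Chain : Subgroup G → ℕ → Prop
  | zero (X : Subgroup G) : Chain X 0
  | step {X Y : Subgroup G} {n : ℕ} : Y < X → Chain Y n → Chain X (n + 1)

theorem Chain.exists_strictAnti {X : Subgroup G} {n : ℕ} (h : Chain X n) :
    ∃ c : Fin (n + 1) → Subgroup G, StrictAnti c ∧ c 0 = X := by
  induction h with
  | zero X => exact ⟨fun _ => X, Subsingleton.strictAnti (α := Fin 1) _, rfl⟩
  | @step X Y n hYX _ ih =>
    obtain ⟨c, hc, hc0⟩ := ih
    refine ⟨Fin.cons X c, ?_, rfl⟩
    refine Fin.strictAnti_iff_succ_lt.2 fun i => ?_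
    refine Fin.cases ?_ (fun j => ?_) i
    · simpa [hc0] using hYX
    · simp only [Fin.cons_succ, ← Fin.succ_castSucc]
      exact hc (Fin.castSucc_lt_succ)

theorem Chain.of_card [Finite G] {p : ℕ} [Fact p.Prime] : ∀ {n : ℕ} {X : Subgroup G},
    Nat.card X = p ^ n → Chain X n
  | 0, X, _ => Chain.zero X
  | n + 1, X, h => by
    obtain ⟨K, hK⟩ := Sylow.exists_subgroup_card_pow_prime p (G := ↥X) (n := n)
      (h ▸ pow_dvd_pow p (Nat.le_succ n))
    have hKc : Nat.card (K.map X.subtype) = p ^ n := by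
      rw [card_map_of_injective X.subtype_injective, hK]
    refine Chain.step (lt_of_le_of_ne (map_subtype_le K) fun he => ?_) (Chain.of_card hKc)
    rw [he, h] at hKc
    exact absurd (Nat.pow_right_injective (Fact.out : p.Prime).two_le hKc) (by omega)

/-- The standing hypotheses. -/
structure Ctx (G : Type*) [Group G] where
  T : Subgroup G
  hT : IsPGroup 2 T
  hcard : Nat.card T = 2 ^ 7
  hsyl : ¬ 2 ∣ T.index
  simple : ∀ N : Subgroup G, N.Normal → N = ⊥ ∨ N = ⊤
  hperf : commutator G = ⊤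
  hlen : ∀ c : Fin 10 → Subgroup G, ¬ StrictAnti c
  hnotT : T ≠ ⊤

variable [Finite G] (C : Ctx G)
include C

theorem Ctx.not_chain {n : ℕ} (hn : 9 ≤ n) {X : Subgroup G} : ¬ Chain X n := fun h => by
  obtain ⟨c, hc, -⟩ := h.exists_strictAnti
  exact C.hlen (c ∘ Fin.castLE (by omega)) (hc.comp_strictMono (Fin.strictMono_castLE _))

/-- A proper subgroup has chains of length at most seven. -/
theorem Ctx.chain_le {n : ℕ} {X : Subgroup G} (hX : X ≠ ⊤) (h : Chain X n) : n ≤ 7 := by
  by_contra! hn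
  exact C.not_chain (n := n + 1) (by omega) (Chain.step (lt_top_iff_ne_top.2 hX) h)

/-- `T` is a maximal subgroup. -/
theorem Ctx.eq_top {X : Subgroup G} (hTX : C.T < X) : X = ⊤ := by
  haveI : Fact (Nat.Prime 2) := ⟨Nat.prime_two⟩
  by_contra hX
  exact absurd (C.chain_le hX (Chain.step hTX (Chain.of_card C.hcard))) (by omega)

theorem Ctx.eq_T {X : Subgroup G} (hTX : C.T ≤ X) (hX : X ≠ ⊤) : X = C.T := by
  by_contra h
  exact hX (C.eq_top (lt_of_le_of_ne hTX (Ne.symm h)))

theorem Ctx.normalizer_ne_top {D : Subgroup G} (hD : D ≠ ⊥) (hDT : D ≤ C.T) :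
    normalizer (D : Set G) ≠ ⊤ := by
  intro h
  rcases C.simple D (normalizer_eq_top_iff.1 h) with h1 | h1
  · exact hD h1
  · exact C.hnotT (top_le_iff.1 (h1 ▸ hDT))

theorem Ctx.normalizer_le {D : Subgroup G} (hD : D ≠ ⊥) (hDT : D ≤ C.T)
    (hn : C.T ≤ normalizer (D : Set G)) : normalizer (D : Set G) = C.T :=
  C.eq_T hn (C.normalizer_ne_top hD hDT)

theorem Ctx.T_ne_bot : C.T ≠ ⊥ := fun h => by
  have := C.hcard
  rw [h, card_bot] at this
  norm_num at this

theorem Ctx.normalizer_T : normalizer (C.T : Set G) = C.T :=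
  C.normalizer_le C.T_ne_bot le_rfl le_normalizer

/-- A central involution of `T`. -/
theorem Ctx.exists_z : ∃ z : G, z ∈ C.T ∧ z ≠ 1 ∧ z * z = 1 ∧ (∀ t ∈ C.T, t * z = z * t) ∧
    centralizer ({z} : Set G) = C.T := by
  haveI : Fact (Nat.Prime 2) := ⟨Nat.prime_two⟩
  haveI : Nontrivial C.T := by
    rw [← Finite.one_lt_card_iff_nontrivial, C.hcard]; norm_num
  haveI := C.hT.center_nontrivial
  have hd : 2 ∣ Nat.card (Subgroup.center C.T) := by
    obtain ⟨k, hk⟩ := IsPGroup.iff_card.1 (C.hT.to_subgroup (Subgroup.center C.T))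
    rw [hk]
    rcases k with _ | k
    · exact absurd hk (by rw [pow_zero]; exact Finite.one_lt_card.ne')
    · exact dvd_pow_self 2 (by omega)
  obtain ⟨⟨z, hzc⟩, hz⟩ := exists_prime_orderOf_dvd_card' 2 hd
  rw [← orderOf_coe, ← orderOf_coe] at hz
  change orderOf (z : G) = 2 at hz
  have hz1 : (z : G) ≠ 1 := fun h => by rw [h, orderOf_one] at hz; omega
  have hc : ∀ t ∈ C.T, t * (z : G) = z * t := fun t ht =>
    congrArg Subtype.val (mem_center_iff.1 hzc ⟨t, ht⟩)
  refine ⟨z, z.2, hz1, by rw [← pow_two, ← hz, pow_orderOf_eq_one], hc, C.eq_T ?_ ?_⟩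
  · exact fun t ht => mem_centralizer_singleton_iff.2 (hc t ht)
  · intro htop
    have hzn : (zpowers (z : G)).Normal := ⟨fun a ha g => by
      have hg : g * z = z * g := mem_centralizer_singleton_iff.1 (htop ▸ mem_top g)
      obtain ⟨k, rfl⟩ := mem_zpowers_iff.1 ha
      rw [(Commute.zpow_right hg k).eq, mul_inv_cancel_right]
      exact zpow_mem (mem_zpowers _) k⟩
    rcases C.simple _ hzn with h | h
    · exact hz1 (zpowers_eq_bot.1 h)
    · exact C.hnotT (top_le_iff.1 (h ▸ zpowers_le.2 z.2))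

/-- A two-subgroup of order 64 of `T` has a normalizer equal to `T`. -/
theorem Ctx.normalizer_64 {P : Subgroup G} (hPT : P ≤ C.T) (hP : Nat.card P = 2 ^ 6) :
    normalizer (P : Set G) = C.T := by
  haveI : Fact (Nat.Prime 2) := ⟨Nat.prime_two⟩
  refine C.normalizer_le (fun h => by rw [h, card_bot] at hP; norm_num at hP) hPT ?_
  have hidx : (P.subgroupOf C.T).index = 2 := by
    have h1 := (P.subgroupOf C.T).card_mul_index
    rw [Nat.card_congr (subgroupOfEquivOfLe hPT).toEquiv, hP, C.hcard] at h1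
    omega
  have := Subgroup.normal_of_index_eq_two hidx
  exact (normal_subgroupOf_iff_le_normalizer hPT).1 this

end H70.Len8
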