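import Cfsg.Agent.H70.Len8.Basic
import Cfsg.Agent.H70.DihedralIso
import Cfsg.Agent.H65.BrauerFowler
import Cfsg.Agent.H36.AmalgamShape
import Mathlib.GroupTheory.IndexNormal
import Mathlib.Algebra.Field.ZMod

/-!
Subgroups of `T` of order 32 and of order at least 32 have 2-group normalizers.
-/

set_option autoImplicit false
set_option linter.style.haveILetI false
set_option linter.unusedSectionVars false

namespace H70.Len8

open Subgroup
open scoped Pointwise

variable {G : Type*} [Group G] [Finite G]

theorem card_lt {A B : Subgroup G} (h : A < B) : Nat.card A < Nat.card B :=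
  lt_of_le_of_ne (card_le_of_le h.le) fun he => h.ne (eq_of_le_of_card_ge h.le he.ge)

theorem lt_inf_normalizer {T B : Subgroup G} (hT : IsPGroup 2 T) (hB : B ≤ T) (hne : B ≠ T) :
    B < T ⊓ normalizer (B : Set G) := by
  haveI : Fact (Nat.Prime 2) := ⟨Nat.prime_two⟩
  haveI := hT.isNilpotent
  have hne' : B.subgroupOf T ≠ ⊤ := fun ht => hne (le_antisymm hB (subgroupOf_eq_top.mp ht))
  obtain ⟨t, htN, htB⟩ := SetLike.exists_of_lt
    (Group.normalizerCondition_of_isNilpotent (B.subgroupOf T) (lt_top_iff_ne_top.mpr hne'))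
  refine SetLike.lt_iff_le_and_exists.2 ⟨le_inf hB le_normalizer, (t : G), mem_inf.2 ⟨t.2, ?_⟩, htB⟩
  exact mem_normalizer_of fun x hx => (mem_normalizer_iff.1 htN ⟨x, hB hx⟩).1 hx

theorem card_dvd_128 (C : Ctx G) {B : Subgroup G} (hB : B ≤ C.T) :
    ∃ k ≤ 7, Nat.card B = 2 ^ k :=
  (Nat.dvd_prime_pow Nat.prime_two).1 (C.hcard ▸ card_dvd_of_le hB)

/-- A subgroup of `T` of order 32 has a 2-group normalizer. -/
theorem Ctx.normalizer_32 (C : Ctx G) {U : Subgroup G} (hUT : U ≤ C.T)
    (hU : Nat.card U = 2 ^ 5) : IsPGroup 2 (normalizer (U : Set G)) := by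
  haveI : Fact (Nat.Prime 2) := ⟨Nat.prime_two⟩
  set N := normalizer (U : Set G) with hNdef
  by_contra hnot
  have hU1 : U ≠ ⊥ := fun h => by rw [h, card_bot] at hU; norm_num at hU
  have hNtop : N ≠ ⊤ := C.normalizer_ne_top hU1 hUT
  have hne : U ≠ C.T := fun h => by rw [h, C.hcard] at hU; norm_num at hU
  set P := C.T ⊓ N with hPdef
  have hUP : U < P := lt_inf_normalizer C.hT hUT hne
  have hTN : ¬ C.T ≤ N := fun h => hnot ((C.eq_T h hNtop).symm ▸ C.hT)
  obtain ⟨k, hk, hPc⟩ := card_dvd_128 C (show P ≤ C.T from inf_le_left)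
  have hk6 : k = 6 := by
    have h1 := card_lt hUP
    have h2 := card_lt (lt_of_le_of_ne (show P ≤ C.T from inf_le_left) fun h => hTN (h ▸ inf_le_right))
    rw [hU, hPc] at h1
    rw [hPc, C.hcard] at h2
    have := (Nat.pow_lt_pow_iff_right (by norm_num)).1 h1
    have := (Nat.pow_lt_pow_iff_right (by norm_num)).1 h2
    omega
  subst hk6
  have hNP : normalizer (P : Set G) = C.T := C.normalizer_64 inf_le_left hPc
  have hP2 : IsPGroup 2 P := C.hT.to_le inf_le_left
  -- `P` is a Sylow subgroup of `N`
  have hPmax : ∀ R : Subgroup G, IsPGroup 2 R → P ≤ R → R ≤ N → R = P := by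
    intro R hR hPR hRN
    by_contra hne'
    have h := lt_inf_normalizer hR hPR (Ne.symm hne')
    rw [hNP] at h
    exact absurd (le_inf inf_le_right (inf_le_left.trans hRN)) (not_le_of_gt h)
  have hPN : P ≤ N := inf_le_right
  let PS : Sylow 2 N :=
    ⟨P.subgroupOf N, hP2.comap_subtype, fun {R} hR hle => by
      refine le_antisymm (fun r hr => ?_) hle
      have h := hPmax (R.map N.subtype) (hR.map _)
        (fun p hp => ⟨⟨p, hPN hp⟩, hle (show (⟨p, hPN hp⟩ : N) ∈ P.subgroupOf N from hp), rfl⟩)
        (map_subtype_le R)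
      have : (r : G) ∈ R.map N.subtype := ⟨r, hr, rfl⟩
      rwa [h] at this⟩
  have hPsc : Nat.card (P.subgroupOf N) = 2 ^ 6 := by
    rw [Nat.card_congr (subgroupOfEquivOfLe hPN).toEquiv, hPc]
  set m := (P.subgroupOf N).index with hm
  have hm_odd : ¬ 2 ∣ m := PS.not_dvd_index
  have hNc : Nat.card N = 2 ^ 6 * m := by rw [← (P.subgroupOf N).card_mul_index, hPsc]
  have hm1 : m ≠ 1 := fun h => hnot (by rw [h, mul_one] at hNc; exact IsPGroup.of_card hNc)
  -- the quotient by `U`
  set U' := U.subgroupOf N with hU'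
  haveI : U'.Normal := (normal_subgroupOf_iff_le_normalizer le_normalizer).2 le_rfl
  have hU'c : Nat.card U' = 2 ^ 5 := by
    rw [Nat.card_congr (subgroupOfEquivOfLe le_normalizer).toEquiv, hU]
  have hQc : Nat.card (↥N ⧸ U') = 2 * m := by
    have h := Subgroup.card_eq_card_quotient_mul_card_subgroup U'
    rw [hNc, hU'c] at h
    omega
  obtain ⟨K, hK⟩ := H65.exists_index_two_of_card_mod_four (G := ↥N ⧸ U') (by rw [hQc]; omega)
  have hKc : Nat.card K = m := by
    have h := K.card_mul_index
    rw [hK, hQc] at h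
    omega
  have hpre : ∀ L : Subgroup (↥N ⧸ U'),
      Nat.card ((L.comap (QuotientGroup.mk' U')).map N.subtype) = Nat.card L * 2 ^ 5 := by
    intro L
    rw [card_map_of_injective N.subtype_injective]
    have h1 := (L.comap (QuotientGroup.mk' U')).card_mul_index
    rw [index_comap_of_surjective _ (QuotientGroup.mk'_surjective U'), hNc] at h1
    have h2 := L.card_mul_index
    rw [hQc] at h2
    have hpos : 0 < L.index := Nat.pos_of_ne_zero index_ne_zero_of_finite
    exact Nat.eq_of_mul_eq_mul_right hpos (by rw [h1, mul_right_comm, h2]; ring)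
  -- `m` is prime
  obtain ⟨r, hr, hrm⟩ := Nat.exists_prime_and_dvd hm1
  haveI := Fact.mk hr
  obtain ⟨⟨c, hcK⟩, hc⟩ := exists_prime_orderOf_dvd_card' (G := K) r (hKc ▸ hrm)
  rw [Subgroup.orderOf_mk] at hc
  have hmr : m = r := by
    by_contra hmr
    set L1 := ((zpowers c).comap (QuotientGroup.mk' U')).map N.subtype with hL1
    set L2 := (K.comap (QuotientGroup.mk' U')).map N.subtype with hL2
    have h12 : L1 < L2 := lt_of_le_of_ne (map_mono (comap_mono (zpowers_le.2 hcK))) fun h => hmr (by
      have := congrArg (fun X : Subgroup G => Nat.card X) h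
      simp only [hL1, hL2, hpre, Nat.card_zpowers, hc, hKc] at this
      exact (Nat.eq_of_mul_eq_mul_right (by norm_num) this).symm)
    have h2N : L2 < N := lt_of_le_of_ne (map_subtype_le _) fun h => by
      have := congrArg (fun X : Subgroup G => Nat.card X) h
      simp only [hL2, hpre, hKc, hNc] at this
      omega
    have hU1' : U < L1 := by
      refine lt_of_le_of_ne ?_ fun h => ?_
      · intro u hu
        refine ⟨⟨u, le_normalizer hu⟩, ?_, rfl⟩
        show (QuotientGroup.mk' U') _ ∈ zpowers c
        rw [show (QuotientGroup.mk' U') ⟨u, le_normalizer hu⟩ = 1 from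
          (QuotientGroup.eq_one_iff _).2 hu]
        exact one_mem _
      · have := congrArg (fun X : Subgroup G => Nat.card X) h
        simp only [hL1, hpre, Nat.card_zpowers, hc, hU] at this
        have h2 := hr.two_le
        omega
    exact absurd (C.chain_le hNtop (Chain.step h2N (Chain.step h12 (Chain.step hU1'
      (Chain.of_card hU))))) (by omega)
  subst hmr
  -- no larger normal 2-subgroup
  have hcore : ∀ R : Subgroup N, R.Normal → IsPGroup 2 R → R ≤ U' := by
    intro R hRn hR
    haveI := hRn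
    have hsup : R ≤ P.subgroupOf N := by
      have h := PS.3 (Q := PS ⊔ R) (PS.2.to_sup_of_normal_right hR) le_sup_left
      exact sup_eq_left.1 h
    intro x hx
    by_contra hxU
    have heq : U' ⊔ R = P.subgroupOf N := by
      refine eq_of_le_of_card_ge (sup_le (comap_mono hUP.le) hsup) ?_
      have hUp : IsPGroup 2 U' := (C.hT.to_le hUT).comap_subtype
      have hp : IsPGroup 2 (U' ⊔ R : Subgroup N) := hUp.to_sup_of_normal_right hR
      obtain ⟨j, hj⟩ := IsPGroup.iff_card.1 hp
      rw [hPsc, hj]
      refine Nat.pow_le_pow_right (by norm_num) ?_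
      have hlt : U' < U' ⊔ R := lt_of_le_of_ne le_sup_left fun h => hxU (h ▸ mem_sup_right hx)
      have h' : Nat.card U' < Nat.card (U' ⊔ R : Subgroup N) := lt_of_le_of_ne
        (card_le_of_le hlt.le) fun he => hlt.ne (eq_of_le_of_card_ge hlt.le he.ge)
      rw [hU'c, hj] at h'
      exact (Nat.pow_lt_pow_iff_right (by norm_num)).1 h'
    haveI : (P.subgroupOf N).Normal := heq ▸ Subgroup.sup_normal U' R
    exact hnot (C.hT.to_le (hNP ▸ (normal_subgroupOf_iff_le_normalizer hPN).1 inferInstance))
  haveI hQn := H1.pCore_normal' 2 ↥N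
  have hcoreN : Cfsg.pCore 2 ↥N = U' := le_antisymm
    (hcore _ inferInstance (H1.isPGroup_pCore 2 _))
    (H1.le_pCore ((C.hT.to_le hUT).comap_subtype))
  -- the quotient is dihedral
  obtain ⟨x, hx⟩ := exists_prime_orderOf_dvd_card' (G := ↥N ⧸ U') 2 (by rw [hQc]; exact dvd_mul_right 2 _)
  have hxc : x ∉ zpowers c := by
    intro h
    have h' := Subgroup.orderOf_dvd_natCard (zpowers c) h
    rw [Nat.card_zpowers, hc, hx] at h'
    exact hm_odd h'
  have hKz : K = zpowers c := (eq_of_le_of_card_ge (zpowers_le.2 hcK)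
    (by rw [hKc, Nat.card_zpowers, hc])).symm
  haveI : (zpowers c).Normal := hKz ▸ Subgroup.normal_of_index_eq_two hK
  have hxx : x * x = 1 := by rw [← pow_two, ← hx, pow_orderOf_eq_one]
  have hinv : x * c * x⁻¹ = c⁻¹ := by
    obtain ⟨j, hj⟩ := mem_zpowers_iff.1 ((inferInstance : (zpowers c).Normal).conj_mem c (mem_zpowers c) x)
    have h2 : c ^ (j * j) = c := by
      rw [zpow_mul, hj, conj_zpow, hj, ← mul_assoc, ← mul_assoc, hxx, one_mul, mul_assoc,
        ← mul_inv_rev, hxx, inv_one, mul_one]
    have h3 : ((j * j : ℤ) : ZMod m) = 1 := by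
      have h4 : c ^ (j * j - 1) = 1 := by rw [zpow_sub, h2, zpow_one, mul_inv_cancel]
      rw [← orderOf_dvd_iff_zpow_eq_one, hc, ← ZMod.intCast_zmod_eq_zero_iff_dvd] at h4
      push_cast at h4 ⊢
      exact sub_eq_zero.1 h4
    push_cast at h3
    rcases mul_self_eq_one_iff.1 h3 with h4 | h4
    · exfalso
      -- then `x` is central
      have hxc' : Commute x c := by
        have : c ^ j = c ^ (1 : ℤ) := by
          rw [zpow_eq_zpow_iff_modEq, hc, ← ZMod.intCast_eq_intCast_iff]
          push_cast; exact h4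
        rw [zpow_one, hj] at this
        exact mul_inv_eq_iff_eq_mul.1 this
      have hcen : ∀ g : ↥N ⧸ U', g * x = x * g := by
        intro g
        have htop : zpowers c ⊔ zpowers x = ⊤ := by
          by_contra h
          have hlt : zpowers c < zpowers c ⊔ zpowers x :=
            lt_of_le_of_ne le_sup_left fun he => hxc (he ▸ mem_sup_right (mem_zpowers x))
          have h1 := (zpowers c).relIndex_mul_index hlt.le
          rw [← hKz, hK, hKz] at h1
          have h2 : (zpowers c ⊔ zpowers x).index ≠ 1 := fun he => h (index_eq_one.1 he)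
          have h3' : (zpowers c).relIndex (zpowers c ⊔ zpowers x) ≠ 1 := fun he =>
            not_le_of_gt hlt (relIndex_eq_one.1 he)
          rcases (Nat.dvd_prime Nat.prime_two).1 (Dvd.intro_left _ h1) with h5 | h5
          · exact h2 h5
          · rw [h5] at h1; omega
        have hle : zpowers c ⊔ zpowers x ≤ centralizer ({x} : Set _) := sup_le
          (zpowers_le.2 (mem_centralizer_singleton_iff.2 hxc'.eq.symm))
          (zpowers_le.2 (mem_centralizer_singleton_iff.2 rfl))
        exact mem_centralizer_singleton_iff.1 (hle (htop ▸ mem_top g))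
      haveI : (zpowers x).Normal := ⟨fun y hy g => by
        obtain ⟨i, rfl⟩ := mem_zpowers_iff.1 hy
        rw [(Commute.zpow_right (hcen g : Commute g x) i).eq, mul_inv_cancel_right]
        exact zpow_mem (mem_zpowers x) i⟩
      have hR : IsPGroup 2 ((zpowers x).comap (QuotientGroup.mk' U')) := by
        refine IsPGroup.comap_of_ker_isPGroup ?_ _ ?_
        · exact IsPGroup.of_card (n := 1) (by rw [Nat.card_zpowers, hx, pow_one])
        · rw [QuotientGroup.ker_mk']; exact (C.hT.to_le hUT).comap_subtype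
      have hle := hcore _ inferInstance hR
      obtain ⟨g, rfl⟩ := QuotientGroup.mk'_surjective U' x
      have hg : g ∈ U' := hle (mem_zpowers _)
      rw [show (QuotientGroup.mk' U') g = 1 from (QuotientGroup.eq_one_iff _).2 hg, orderOf_one] at hx
      omega
    · have : c ^ j = c ^ (-1 : ℤ) := by
        rw [zpow_eq_zpow_iff_modEq, hc, ← ZMod.intCast_eq_intCast_iff]
        push_cast; exact h4
      rw [zpow_neg_one, hj] at this
      exact this
  obtain ⟨e⟩ := H70.nonempty_mulEquiv_dihedral (by rw [hQc, hc]) hxx hxc hinv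
  rw [hc] at e
  -- the element `y`
  obtain ⟨y, hy, hyP⟩ := SetLike.exists_of_lt (lt_of_le_of_ne (show P ≤ C.T from inf_le_left)
    fun h => hTN (h ▸ inf_le_right))
  have hidx : (P.subgroupOf C.T).index = 2 := by
    have h1 := (P.subgroupOf C.T).card_mul_index
    rw [Nat.card_congr (subgroupOfEquivOfLe inf_le_left).toEquiv, hPc, C.hcard] at h1
    omega
  have hyn : y ∈ normalizer (P : Set G) := by rw [hNP]; exact hy
  have hy2 : y * y ∈ P := by
    have := mul_self_mem_of_index_two hidx (⟨y, hy⟩ : C.T)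
    exact this
  have hshape := H36.AmalShape.shape N (by
      rw [hcoreN]
      exact fun h => hU1 (by
        rw [eq_bot_iff]; intro u hu
        have : (⟨u, le_normalizer hu⟩ : N) ∈ U' := hu
        rw [h, mem_bot] at this
        exact congrArg Subtype.val this)) m hr.two_le
    ⟨(QuotientGroup.quotientMulEquivOfEq hcoreN).trans e⟩ P hPN hP2 hm_odd y
    (mem_sup_left (by rw [pow_two]; exact hy2))
    (by
      ext w
      rw [mem_pointwise_smul_iff_inv_smul_mem]
      show (MulAut.conj y)⁻¹ w ∈ P ↔ _
      rw [MulAut.inv_def, MulAut.conj_symm_apply]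
      constructor
      · intro h
        have := conj_mem hyn h
        simpa [mul_assoc] using this
      · intro h
        simpa [mul_assoc] using conj_mem (inv_mem hyn) h)
    (fun Q hQP hQn' hQy => by
      by_contra hQ1
      have hQN : Q ≤ N := hQP.trans hPN
      have hn : N ≤ normalizer (Q : Set G) := (normal_subgroupOf_iff_le_normalizer hQN).1 hQn'
      have hyQ : y ∈ normalizer (Q : Set G) := mem_normalizer_of fun w hw => by
        rw [← hQy]; exact ⟨w, hw, rfl⟩
      have hT : C.T ≤ normalizer (Q : Set G) := by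
        intro t ht
        by_cases htP : t ∈ P
        · exact hn (hPN htP)
        · have hyt : y⁻¹ * t ∈ P := by
            have h := (mul_mem_iff_of_index_two hidx (a := (⟨y, hy⟩ : C.T)⁻¹) (b := ⟨t, ht⟩)).2
              (iff_of_false (fun h => hyP (mem_subgroupOf.1 (inv_mem_iff.1 h))) htP)
            exact h
          have := mul_mem hyQ (hn (hPN hyt))
          rwa [mul_inv_cancel_left] at this
      exact hnot (C.hT.to_le ((C.normalizer_le hQ1 (hQP.trans inf_le_left) hT) ▸ hn)))
  rcases hshape.1 with h | h | h <;> rw [hPc] at h <;> norm_num at h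

/-- The subgroups of order at least 32 in `T`. -/
theorem Ctx.normalizer_big (C : Ctx G) {P : Subgroup G} (hPT : P ≤ C.T)
    (hP : 32 ≤ Nat.card P) : IsPGroup 2 (normalizer (P : Set G)) := by
  obtain ⟨k, hk, hc⟩ := card_dvd_128 C hPT
  have h5 : 5 ≤ k := by
    rw [hc, show (32 : ℕ) = 2 ^ 5 by norm_num] at hP
    exact (Nat.pow_le_pow_iff_right (by norm_num)).1 hP
  rcases (show k = 5 ∨ k = 6 ∨ k = 7 by omega) with rfl | rfl | rfl
  · exact C.normalizer_32 hPT hc
  · rw [C.normalizer_64 hPT hc]; exact C.hT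
  · rw [eq_of_le_of_card_ge hPT (by rw [hc, C.hcard]), C.normalizer_T]; exact C.hT

end H70.Len8
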