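import Mathlib.GroupTheory.Frattini
import Mathlib.GroupTheory.Nilpotent
import Cfsg.Agent.H6.NormalAbelian
import Cfsg.Agent.H70.Len8.NoLocal

/-!
The Frattini subgroup of `T`, seen inside `G`.
-/

set_option autoImplicit false
set_option linter.style.haveILetI false
set_option linter.unusedSectionVars false

namespace H70.Len8

open Subgroup
open scoped commutatorElement

variable {G : Type*} [Group G] [Finite G]

theorem Ctx.coatom_index_two (C : Ctx G) {K : Subgroup C.T} (hK : IsCoatom K) : K.index = 2 := by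
  haveI : Fact (Nat.Prime 2) := ⟨Nat.prime_two⟩
  haveI := C.hT.isNilpotent
  haveI : K.Normal := Subgroup.NormalizerCondition.normal_of_coatom K
    Group.normalizerCondition_of_isNilpotent hK
  obtain ⟨k, hk⟩ := IsPGroup.iff_card.1 (C.hT.to_quotient K)
  have hk1 : k ≤ 1 := by
    by_contra! h
    obtain ⟨H, hH⟩ := Sylow.exists_subgroup_card_pow_prime 2 (G := C.T ⧸ K) (n := 1)
      (hk ▸ pow_dvd_pow 2 (by omega))
    rcases (hK.le_iff.1 (QuotientGroup.le_comap_mk' K H)) with h' | h'
    · have : H = ⊤ := by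
        rw [← map_comap_eq_self_of_surjective (QuotientGroup.mk'_surjective K) H, h',
          Subgroup.map_top_of_surjective _ (QuotientGroup.mk'_surjective K)]
      rw [this, card_top, hk] at hH
      have := Nat.pow_right_injective le_rfl hH
      omega
    · have : H = ⊥ := by
        rw [← map_comap_eq_self_of_surjective (QuotientGroup.mk'_surjective K) H, h',
          Subgroup.map_eq_bot_iff, QuotientGroup.ker_mk']
      rw [this, card_bot] at hH
      norm_num at hH
  rcases Nat.le_one_iff_eq_zero_or_eq_one.1 hk1 with rfl | rfl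
  · exact absurd (index_eq_one.1 hk) hK.1
  · exact hk

/-- The Frattini subgroup. -/
def Ctx.Φ (C : Ctx G) : Subgroup G := (frattini C.T).map C.T.subtype

variable (C : Ctx G)

theorem Ctx.Φ_le : C.Φ ≤ C.T := map_subtype_le _

theorem Ctx.mem_Φ_iff {x : G} (hx : x ∈ C.T) :
    x ∈ C.Φ ↔ ∀ K : Subgroup C.T, IsCoatom K → (⟨x, hx⟩ : C.T) ∈ K := by
  constructor
  · rintro ⟨y, hy, hyx⟩ K hK
    obtain rfl : y = ⟨x, hx⟩ := Subtype.ext hyx
    exact frattini_le_coatom hK hy
  · intro h
    refine ⟨⟨x, hx⟩, ?_, rfl⟩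
    show (⟨x, hx⟩ : C.T) ∈ frattini C.T
    rw [frattini, Order.radical]
    simp only [Subgroup.mem_iInf]
    exact fun K hK => h K hK

theorem Ctx.sq_mem {x : G} (hx : x ∈ C.T) : x * x ∈ C.Φ :=
  (C.mem_Φ_iff (mul_mem hx hx)).2 fun K hK =>
    mul_self_mem_of_index_two (C.coatom_index_two hK) (⟨x, hx⟩ : C.T)

theorem Ctx.comm_mem {x y : G} (hx : x ∈ C.T) (hy : y ∈ C.T) : x * y * x⁻¹ * y⁻¹ ∈ C.Φ := by
  refine (C.mem_Φ_iff (mul_mem (mul_mem (mul_mem hx hy) (inv_mem hx)) (inv_mem hy))).2 fun K hK => ?_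
  have h := C.coatom_index_two hK
  have key : ∀ a b : C.T, a * b * a⁻¹ * b⁻¹ ∈ K := fun a b => by
    simp only [mul_mem_iff_of_index_two h, inv_mem_iff]
    tauto
  exact key ⟨x, hx⟩ ⟨y, hy⟩

theorem Ctx.Φ_conj {x t : G} (hx : x ∈ C.Φ) (ht : t ∈ C.T) : t * x * t⁻¹ ∈ C.Φ := by
  have h := mul_mem (C.comm_mem ht (C.Φ_le hx)) hx
  rwa [inv_mul_cancel_right] at h

theorem Ctx.nongen {K : Subgroup G} (hK : K ≤ C.T) (h : K ⊔ C.Φ = C.T) : K = C.T := by
  have h1 : K.subgroupOf C.T ⊔ frattini C.T = ⊤ := by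
    refine map_injective C.T.subtype_injective ?_
    rw [Subgroup.map_sup, subgroupOf_map_subtype, inf_eq_left.2 hK, ← MonoidHom.range_eq_map,
      Subgroup.range_subtype]
    exact h
  exact le_antisymm hK (subgroupOf_eq_top.1 (frattini_nongenerating h1))

theorem Ctx.sup_card {H : Subgroup G} (hΦH : C.Φ ≤ H) (hHT : H ≤ C.T) {x : G} (hx : x ∈ C.T)
    (hxH : x ∉ H) : Nat.card (H ⊔ zpowers x : Subgroup G) = 2 * Nat.card H := by
  have hn : C.T ≤ normalizer (H : Set G) := fun t ht => mem_normalizer_of fun h hh => by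
    have := mul_mem (hΦH (C.comm_mem ht (hHT hh))) hh
    rwa [inv_mul_cancel_right] at this
  have hle : H ⊔ zpowers x ≤ C.T := sup_le hHT (zpowers_le.2 hx)
  have hxx : x * x ∈ H := hΦH (C.sq_mem hx)
  have hi : (H.subgroupOf (H ⊔ zpowers x)).index = 2 := by
    refine index_eq_two_iff.2 ⟨⟨x, mem_sup_right (mem_zpowers x)⟩, ?_⟩
    intro b
    have hb : (b : G) ∈ ((H ⊔ zpowers x : Subgroup G) : Set G) := b.2
    rw [Subgroup.coe_mul_of_right_le_normalizer_left H (zpowers x)
      ((zpowers_le.2 hx).trans hn)] at hb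
    obtain ⟨k, hk, y, hy, hky⟩ := hb
    obtain ⟨j, rfl⟩ := mem_zpowers_iff.1 hy
    have hky' : k * x ^ j = (b : G) := hky
    simp only [mem_subgroupOf, Subgroup.coe_mul]
    rw [← hky']
    rcases Int.even_or_odd' j with ⟨i, rfl | rfl⟩
    · have h1 : k * x ^ (2 * i) ∈ H := mul_mem hk (by rw [zpow_mul, zpow_two]; exact zpow_mem hxx i)
      refine Or.inr ⟨h1, fun h => hxH ?_⟩
      have := mul_mem (inv_mem h1) h
      simpa [mul_assoc] using this
    · refine Or.inl ⟨?_, fun h => hxH ?_⟩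
      · rw [zpow_add, zpow_one, mul_assoc k (x ^ (2 * i) * x) x, mul_assoc (x ^ (2 * i)) x x]
        exact mul_mem hk (mul_mem (by rw [zpow_mul, zpow_two]; exact zpow_mem hxx i) hxx)
      · rw [zpow_add, zpow_one, ← mul_assoc] at h
        have h1 : k * x ^ (2 * i) ∈ H := mul_mem hk (by rw [zpow_mul, zpow_two]; exact zpow_mem hxx i)
        have := mul_mem (inv_mem h1) h
        simpa [mul_assoc] using this
  have h2 := (H.subgroupOf (H ⊔ zpowers x)).card_mul_index
  rw [hi, Nat.card_congr (subgroupOfEquivOfLe le_sup_left).toEquiv] at h2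
  omega

theorem Ctx.card_sup_mul {H : Subgroup G} (hH : H ≤ C.T) :
    Nat.card (H ⊔ C.Φ : Subgroup G) * Nat.card (H ⊓ C.Φ : Subgroup G) =
      Nat.card H * Nat.card C.Φ := by
  haveI : (frattini C.T).Normal := inferInstance
  set H' := H.subgroupOf C.T
  set F := frattini C.T
  have hH' : H'.map C.T.subtype = H := by rw [subgroupOf_map_subtype, inf_eq_left.2 hH]
  have key : Nat.card (H' ⊔ F : Subgroup C.T) * Nat.card (H' ⊓ F : Subgroup C.T) =
      Nat.card H' * Nat.card F := by
    have h1 := relIndex_mul_relIndex (⊥ : Subgroup C.T) F (H' ⊔ F) bot_le le_sup_right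
    rw [relIndex_bot_left, relIndex_bot_left, Subgroup.relIndex_sup_right] at h1
    have h2 := relIndex_mul_relIndex (⊥ : Subgroup C.T) (H' ⊓ F) H' bot_le inf_le_left
    rw [relIndex_bot_left, relIndex_bot_left, inf_relIndex_left] at h2
    rw [← h2, ← h1]
    ring
  have hc : ∀ K : Subgroup C.T, Nat.card (K.map C.T.subtype) = Nat.card K := fun K =>
    card_map_of_injective C.T.subtype_injective
  conv_lhs => rw [← hH', Ctx.Φ, ← Subgroup.map_sup, ← Subgroup.map_inf _ _ _ C.T.subtype_injective]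
  conv_rhs => rw [← hH', Ctx.Φ]
  rw [hc, hc, hc, hc]
  exact key

/-- Every element of the Frattini subgroup, of order sixteen, centralises more than four of its
elements. -/
theorem Ctx.big_centralizer (h16 : Nat.card C.Φ = 16) {q : G} (hq : q ∈ C.Φ)
    {D : Subgroup G} (hD : ∀ x ∈ C.T, x * q = q * x → x ∈ D) : 4 < Nat.card (D ⊓ C.Φ : Subgroup G) := by
  haveI : Fact (Nat.Prime 2) := ⟨Nat.prime_two⟩
  haveI : (frattini C.T).Normal := inferInstance
  have hFc : Nat.card (frattini C.T) = 16 := by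
    rw [← h16, Ctx.Φ, card_map_of_injective C.T.subtype_injective]
  -- a normal subgroup of order four inside the Frattini subgroup
  have hchain : ∀ n : ℕ, n ≤ 2 → ∃ K : Subgroup C.T, K.Normal ∧ K ≤ frattini C.T ∧ Nat.card K = 2 ^ n := by
    intro n
    induction n with
    | zero => intro _; exact ⟨⊥, inferInstance, bot_le, by simp⟩
    | succ n ih =>
      intro hn
      obtain ⟨K, hKn, hKF, hKc⟩ := ih (by omega)
      haveI := hKn
      have hlt : K < frattini C.T := lt_of_le_of_ne hKF fun h => by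
        rw [h, hFc, show (16 : ℕ) = 2 ^ 4 by norm_num] at hKc
        have := Nat.pow_right_injective le_rfl hKc
        omega
      obtain ⟨K', hn', -, hKF', hc'⟩ := H6.exists_normal_between C.hT hlt
      exact ⟨K', hn', hKF', by rw [hc', hKc, pow_succ']⟩
  obtain ⟨K, hKn, hKF, hKc⟩ := hchain 2 le_rfl
  have hidx := H6.index_centralizer_normal_le C.hT 2 K hKn hKc
  norm_num at hidx
  have hcen : ∀ k ∈ K, ∀ x ∈ C.Φ, x * (k : G) = k * x := by
    intro k hk x hx
    have hxF : (⟨x, C.Φ_le hx⟩ : C.T) ∈ centralizer (K : Set C.T) := by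
      rcases (show (centralizer (K : Set C.T)).index = 1 ∨ (centralizer (K : Set C.T)).index = 2 by
        have : (centralizer (K : Set C.T)).index ≠ 0 := index_ne_zero_of_finite
        omega) with h | h
      · rw [index_eq_one.1 h]; exact mem_top _
      · refine frattini_le_coatom ?_ (show (⟨x, C.Φ_le hx⟩ : C.T) ∈ frattini C.T by
          obtain ⟨y, hy, hyx⟩ := hx
          have he : (⟨x, C.Φ_le ⟨y, hy, hyx⟩⟩ : C.T) = y := Subtype.ext hyx.symm
          rwa [he])
        refine ⟨fun ht => by rw [ht, index_top] at h; omega, fun B hB => ?_⟩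
        have h1 := relIndex_mul_index hB.le
        rw [h] at h1
        have h2 : (centralizer (K : Set C.T)).relIndex B ≠ 1 := fun he =>
          not_le_of_gt hB (relIndex_eq_one.1 he)
        rcases (Nat.dvd_prime Nat.prime_two).1 (Dvd.intro_left _ h1) with h5 | h5
        · exact index_eq_one.1 h5
        · rw [h5] at h1; omega
    exact (congrArg Subtype.val (mem_centralizer_iff.1 hxF k hk)).symm
  set K' := K.map C.T.subtype
  have hK'Φ : K' ≤ C.Φ := map_mono hKF
  have hK'D : K' ≤ D := by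
    rintro _ ⟨k, hk, rfl⟩
    exact hD k k.2 (hcen k hk q hq).symm
  have h4 : Nat.card K' = 4 := by rw [card_map_of_injective C.T.subtype_injective, hKc]; norm_num
  have hqD : q ∈ D := hD q (C.Φ_le hq) rfl
  by_cases hqK : q ∈ K'
  · obtain ⟨k, hk, hkq⟩ := hqK
    have hle : C.Φ ≤ D := fun x hx => hD x (C.Φ_le hx) (by
      rw [← hkq]; exact hcen k hk x hx)
    rw [inf_eq_right.2 hle, h16]
    norm_num
  calc 4 = Nat.card K' := h4.symm
    _ < Nat.card (D ⊓ C.Φ : Subgroup G) := card_lt (lt_of_le_of_ne (le_inf hK'D hK'Φ)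
        fun h => hqK (h ▸ mem_inf.2 ⟨hqD, hq⟩))

end H70.Len8
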