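import Cfsg.Agent.H70.Len8.Local
import Cfsg.Agent.H70.Len8.Frat
import Mathlib.GroupTheory.SpecificGroups.Cyclic
import Mathlib.Data.Fin.VecNotation

/-!
Counting conjugates: the displacements of essential subgroups of order at least eight cannot
generate `T`.
-/

set_option autoImplicit false
set_option linter.style.haveILetI false
set_option linter.unusedSectionVars false

namespace H70.Len8

open Subgroup

variable {G : Type*} [Group G] [Finite G] {C : Ctx G}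

/-- A displacement in an essential subgroup. -/
def IsDisp (C : Ctx G) (x : G) : Prop :=
  ∃ L : Loc C, ∃ g ∈ normalizer (L.D : Set G), ∃ d ∈ L.D, x = d⁻¹ * (g * d * g⁻¹)

/-- A displacement outside the Frattini subgroup. -/
structure Gen (C : Ctx G) where
  x : G
  L : Loc C
  hbig : 8 ≤ Nat.card L.D
  hxD : x ∈ L.D
  hx0 : x ∉ L.D₀
  hxx : x * x = 1
  hxΦ : x ∉ C.Φ
  g : G
  hg : g ∈ normalizer (L.D : Set G)
  d : G
  hd : d ∈ L.D
  hx : x = d⁻¹ * (g * d * g⁻¹)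
  hcov : ∀ g ∈ normalizer (L.D : Set G), ∀ d ∈ L.D,
    d⁻¹ * (g * d * g⁻¹) ∈ C.Φ ∨ x⁻¹ * (d⁻¹ * (g * d * g⁻¹)) ∈ C.Φ
  hw : ∃ w₀ ∈ L.D₀, w₀ ∈ C.Φ ∧ w₀ ≠ 1 ∧ w₀ * w₀ = 1 ∧ ∀ d ∈ L.D, d * d ≠ w₀

theorem exists_gen (L : Loc C) (hbig : 8 ≤ Nat.card L.D) {g d : G}
    (hg : g ∈ normalizer (L.D : Set G)) (hd : d ∈ L.D) (hx : d⁻¹ * (g * d * g⁻¹) ∉ C.Φ) :
    ∃ Ge : Gen C, Ge.x = d⁻¹ * (g * d * g⁻¹) := by
  obtain ⟨w, hwD, hw0, hww, v, hv, hvD, hv1, hsq, hdisp⟩ := L.shape.disp hbig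
  set w₀ := w⁻¹ * (v * w * v⁻¹) with hw₀
  have hwT := L.hDT hwD
  have hwi : w⁻¹ = w := inv_eq_of_mul_eq_one_right hww
  have hw₀Φ : w₀ ∈ C.Φ := by
    have h := C.comm_mem (inv_mem hwT) hv
    rw [inv_inv] at h
    rwa [hw₀, ← mul_assoc, ← mul_assoc]
  have hw₀2 : w₀ * w₀ = 1 := by
    have h1 : w * w₀ = w₀ * w := L.comm hwD hvD.1
    have h2 : v * w * v⁻¹ = w * w₀ := by rw [hw₀, mul_inv_cancel_left]
    calc w₀ * w₀ = (w * w) * (w₀ * w₀) := by rw [hww, one_mul]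
      _ = w * (w * w₀) * w₀ := by group
      _ = w * (w₀ * w) * w₀ := by rw [h1]
      _ = (v * w * v⁻¹) * (v * w * v⁻¹) := by rw [h2]; group
      _ = 1 := by
          rw [show v * w * v⁻¹ * (v * w * v⁻¹) = v * (w * w) * v⁻¹ by group, hww, mul_one,
            mul_inv_cancel]
  -- the elements of the four-group
  have hfour : ∀ y ∈ closure ({w, w₀} : Set G), y = 1 ∨ y = w ∨ y = w₀ ∨ y = w * w₀ := by
    intro y hy
    have h1 : w * w₀ = w₀ * w := L.comm hwD hvD.1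
    induction hy using closure_induction with
    | mem a ha => rcases ha with rfl | rfl <;> tauto
    | one => tauto
    | mul a b _ _ ha hb =>
      rcases ha with rfl | rfl | rfl | rfl <;> rcases hb with rfl | rfl | rfl | rfl
      all_goals first
        | (left; simp [hww, hw₀2]; done)
        | (right; left; simp [hw₀2, mul_assoc]; done)
        | (right; right; left; simp [← mul_assoc, hww]; done)
        | (right; right; right; simp; done)
        | skip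
      · right; right; right; exact h1.symm
      · right; left; rw [← mul_assoc, ← h1, mul_assoc, hw₀2, mul_one]
      · right; right; left; rw [mul_assoc, ← h1, ← mul_assoc, hww, one_mul]
      · left
        rw [show w * w₀ * (w * w₀) = w * (w₀ * w) * w₀ by group, ← h1, ← mul_assoc w w w₀, hww,
          one_mul, hw₀2]
    | inv a _ ha =>
      rcases ha with rfl | rfl | rfl | rfl
      · simp
      · right; left; exact hwi
      · right; right; left; exact inv_eq_of_mul_eq_one_right hw₀2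
      · right; right; right; rw [mul_inv_rev, hwi, inv_eq_of_mul_eq_one_right hw₀2, h1]
  have hmem : ∀ g ∈ normalizer (L.D : Set G), ∀ d ∈ L.D, d⁻¹ * (g * d * g⁻¹) ∈ C.Φ ∨
      d⁻¹ * (g * d * g⁻¹) = w ∨ d⁻¹ * (g * d * g⁻¹) = w * w₀ := by
    intro g' hg' d' hd'
    rcases hfour _ (hdisp g' hg' d' hd') with h | h | h | h
    · left; rw [h]; exact one_mem _
    · exact Or.inr (Or.inl h)
    · left; rw [h]; exact hw₀Φ
    · exact Or.inr (Or.inr h)
  set x := d⁻¹ * (g * d * g⁻¹) with hxdef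
  have hxc : x = w ∨ x = w * w₀ := (hmem g hg d hd).resolve_left hx
  have hxD : x ∈ L.D := mul_mem (inv_mem hd) (conj_mem hg hd)
  have hxx : x * x = 1 := by
    rcases hxc with h | h <;> rw [h]
    · exact hww
    · rw [show w * w₀ * (w * w₀) = w * (w₀ * w) * w₀ by group, ← L.comm hwD hvD.1,
        ← mul_assoc w w w₀, hww, one_mul, hw₀2]
  have hx0 : x ∉ L.D₀ := by
    rcases hxc with h | h <;> rw [h]
    · exact hw0
    · intro hm
      have := mul_mem hm hvD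
      rw [mul_assoc, hw₀2, mul_one] at this
      exact hw0 this
  refine ⟨⟨x, L, hbig, hxD, hx0, hxx, hx, g, hg, d, hd, rfl, fun g' hg' d' hd' => ?_,
    w₀, hvD, hw₀Φ, hv1, hw₀2, hsq⟩, rfl⟩
  rcases hmem g' hg' d' hd' with h | h
  · exact Or.inl h
  right
  rcases hxc with hc | hc <;> rcases h with h | h <;> rw [hc, h]
  · rw [inv_mul_cancel]; exact one_mem _
  · rw [inv_mul_cancel_left]; exact hw₀Φ
  · rw [mul_inv_rev, mul_assoc, inv_mul_cancel, mul_one]; exact inv_mem hw₀Φ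
  · rw [inv_mul_cancel]; exact one_mem _

/-- The centraliser in `T` of an element of `D ∖ D₀` is `D`. -/
theorem Loc.cent (L : Loc C) {x y : G} (hxD : x ∈ L.D) (hx0 : x ∉ L.D₀) (hy : y ∈ C.T)
    (hyx : y * x = x * y) : y ∈ L.D := by
  have hP : ∀ p ∈ L.P, p * x = x * p → p ∈ L.D := by
    intro p hp hpx
    by_contra hpD
    refine hx0 (mem_inf.2 ⟨hxD, mem_centralizer_iff.2 fun q hq => ?_⟩)
    have hle : L.D ⊔ zpowers p ≤ centralizer ({x} : Set G) :=
      sup_le (fun d hd => mem_centralizer_singleton_iff.2 (L.comm hd hxD))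
        (zpowers_le.2 (mem_centralizer_singleton_iff.2 hpx))
    have hlt : L.D < L.D ⊔ zpowers p :=
      lt_of_le_of_ne le_sup_left fun h => hpD (h ▸ mem_sup_right (mem_zpowers p))
    have hle2 : L.D ⊔ zpowers p ≤ L.P := sup_le L.lt.le (zpowers_le.2 hp)
    have h1 := card_lt hlt
    obtain ⟨i, hi⟩ := IsPGroup.iff_card.1 (L.P2.to_le hle2)
    obtain ⟨a, -, ha⟩ := card_dvd_128 C L.hDT
    have hh := L.shape.hP
    rw [hi, ha] at h1
    have h1' := (Nat.pow_lt_pow_iff_right (by norm_num)).1 h1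
    have heq : L.D ⊔ zpowers p = L.P := eq_of_le_of_card_ge hle2 (by
      rw [hh, hi, ha, ← pow_succ']
      exact Nat.pow_le_pow_right (by norm_num) h1')
    exact mem_centralizer_singleton_iff.1 (hle (heq.symm ▸ hq))
  set K := C.T ⊓ centralizer ({x} : Set G) with hK
  have hDK : L.D ≤ K :=
    le_inf L.hDT fun d hd => mem_centralizer_singleton_iff.2 (L.comm hd hxD)
  have hyK : y ∈ K := mem_inf.2 ⟨hy, mem_centralizer_singleton_iff.2 hyx⟩
  by_contra hyD
  have hne : L.D ≠ K := fun h => hyD (h ▸ hyK)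
  obtain ⟨k, hk, hkD⟩ := SetLike.exists_of_lt (lt_inf_normalizer (C.hT.to_le inf_le_left) hDK hne)
  exact hkD (hP k (mem_inf.2 ⟨(mem_inf.1 hk.1).1, hk.2⟩)
    (mem_centralizer_singleton_iff.1 (mem_inf.1 hk.1).2))

/-- The elements of `T` conjugate into `D ∖ D₀`. -/
def Loc.conjSet (L : Loc C) (S : Set G) : Set G :=
  {p | ∃ t ∈ C.T, ∃ d ∈ S, p = t * d * t⁻¹}

theorem Loc.count (L : Loc C) (S : Set G) (hS : ∀ d ∈ S, d ∈ L.D ∧ d ∉ L.D₀) :
    Nat.card C.T * Nat.card S ≤ Nat.card L.P * Nat.card (L.conjSet S) := by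
  classical
  haveI : Fintype C.T := Fintype.ofFinite _
  haveI : Fintype S := Fintype.ofFinite _
  haveI : Fintype (L.conjSet S) := Fintype.ofFinite _
  haveI : Fintype L.P := Fintype.ofFinite _
  let f : C.T × S → L.conjSet S := fun q => ⟨_, q.1, q.1.2, q.2, q.2.2, rfl⟩
  have hsub : ∀ q0 q : C.T × S, f q = f q0 → (q0.1 : G)⁻¹ * q.1 ∈ L.P := by
    intro q0 q h
    have h' : (q.1 : G) * q.2 * (q.1 : G)⁻¹ = (q0.1 : G) * q0.2 * (q0.1 : G)⁻¹ :=
      congrArg Subtype.val h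
    set u := (q0.1 : G)⁻¹ * q.1 with hu
    have huT : u ∈ C.T := mul_mem (inv_mem q0.1.2) q.1.2
    have hud : u * q.2 * u⁻¹ = (q0.2 : G) := by
      calc u * q.2 * u⁻¹ = (q0.1 : G)⁻¹ * ((q.1 : G) * q.2 * (q.1 : G)⁻¹) * q0.1 := by
            rw [hu]; group
        _ = (q0.2 : G) := by rw [h']; group
    obtain ⟨hd1, hd0⟩ := hS q.2 q.2.2
    obtain ⟨he1, he0⟩ := hS q0.2 q0.2.2
    refine mem_inf.2 ⟨huT, mem_normalizer_of fun e he => ?_⟩
    refine L.cent he1 he0 (mul_mem (mul_mem huT (L.hDT he)) (inv_mem huT)) ?_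
    rw [← hud]
    calc u * e * u⁻¹ * (u * q.2 * u⁻¹) = u * (e * q.2) * u⁻¹ := by group
      _ = u * (q.2 * e) * u⁻¹ := by rw [L.comm he hd1]
      _ = u * q.2 * u⁻¹ * (u * e * u⁻¹) := by group
  have hfib : ∀ p : L.conjSet S, (Finset.univ.filter fun q => f q = p).card ≤ Fintype.card L.P := by
    intro p
    by_cases hne : ∃ q0, f q0 = p
    · obtain ⟨q0, hq0⟩ := hne
      rw [← Fintype.card_subtype]
      let φ : {q // f q = p} → L.P := fun q =>
        ⟨(q0.1 : G)⁻¹ * q.1.1, hsub q0 q.1 (q.2.trans hq0.symm)⟩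
      refine Fintype.card_le_of_injective φ fun a b hab => ?_
      have h1 : (a.1.1 : G) = b.1.1 := mul_left_cancel (congrArg Subtype.val hab)
      have h2 := congrArg Subtype.val (a.2.trans b.2.symm)
      change (a.1.1 : G) * a.1.2 * (a.1.1 : G)⁻¹ = (b.1.1 : G) * b.1.2 * (b.1.1 : G)⁻¹ at h2
      rw [h1] at h2
      exact Subtype.ext (Prod.ext (Subtype.ext h1)
        (Subtype.ext (mul_left_cancel (mul_right_cancel h2))))
    · rw [Finset.filter_false_of_mem fun q _ hq => hne ⟨q, hq⟩]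
      exact Nat.zero_le _
  have h := Finset.card_le_mul_card_image (Finset.univ : Finset (C.T × S)) (Fintype.card L.P)
    (fun p _ => hfib p)
  rw [Finset.card_univ, Fintype.card_prod] at h
  simp only [Nat.card_eq_fintype_card]
  exact h.trans (Nat.mul_le_mul_left _ (Finset.card_le_univ _))

/-- The conjugates of the whole of `D ∖ D₀`. -/
def Gen.A (Ge : Gen C) : Set G := Ge.L.conjSet {d | d ∈ Ge.L.D ∧ d ∉ Ge.L.D₀}

theorem Gen.A_le (Ge : Gen C) {p : G} (hp : p ∈ Ge.A) : p ∈ C.T ∧ p ≠ 1 := by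
  obtain ⟨t, ht, d, ⟨hd, hd0⟩, rfl⟩ := hp
  refine ⟨mul_mem (mul_mem ht (Ge.L.hDT hd)) (inv_mem ht), fun h => hd0 ?_⟩
  rw [conj_eq_one_iff.1 h]
  exact one_mem _

theorem Gen.A_cent (Ge : Gen C) {p : G} (hp : p ∈ Ge.A) (K : Subgroup G) (hK : K ≤ C.T)
    (hc : ∀ k ∈ K, k * p = p * k) : Nat.card K ≤ 16 := by
  obtain ⟨t, ht, d, ⟨hd, hd0⟩, rfl⟩ := hp
  refine le_trans ?_ Ge.L.card_D
  refine Nat.card_le_card_of_injective
    (fun k : K => (⟨t⁻¹ * k * t, Ge.L.cent hd hd0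
      (mul_mem (mul_mem (inv_mem ht) (hK k.2)) ht) ?_⟩ : Ge.L.D))
    fun a b h => Subtype.ext (mul_left_cancel (mul_right_cancel (congrArg Subtype.val h)))
  calc t⁻¹ * k * t * d = t⁻¹ * ((k : G) * (t * d * t⁻¹)) * t := by group
    _ = t⁻¹ * (t * d * t⁻¹ * k) * t := by rw [hc k k.2]
    _ = d * (t⁻¹ * k * t) := by group

theorem Gen.card_A (Ge : Gen C) : 32 ≤ Nat.card Ge.A := by
  set S : Set G := {d | d ∈ Ge.L.D ∧ d ∉ Ge.L.D₀}
  have hS : Nat.card S + Nat.card Ge.L.D₀ = Nat.card Ge.L.D := by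
    rw [show Nat.card Ge.L.D = Nat.card ((Ge.L.D : Set G)) from rfl,
      show Nat.card Ge.L.D₀ = Nat.card ((Ge.L.D₀ : Set G)) from rfl,
      Nat.card_coe_set_eq, Nat.card_coe_set_eq, Nat.card_coe_set_eq]
    exact Set.ncard_diff_add_ncard_of_subset (s := (Ge.L.D₀ : Set G)) (t := (Ge.L.D : Set G))
      inf_le_left
  have h := Ge.L.count S fun d hd => hd
  have h0 := Ge.L.shape.h0
  have hP := Ge.L.shape.hP
  rw [C.hcard, hP] at h
  have hpos : 0 < Nat.card Ge.L.D₀ := Nat.card_pos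
  have hSc : Nat.card S = Nat.card Ge.L.D₀ := by omega
  rw [hSc, h0] at h
  show 32 ≤ Nat.card (Ge.L.conjSet S)
  nlinarith

/-- Intersecting conjugate sets come from displacements congruent modulo `Φ`. -/
theorem Gen.congr (G₁ G₂ : Gen C) {p : G} (h₁ : p ∈ G₁.A) (h₂ : p ∈ G₂.A) :
    G₂.x⁻¹ * G₁.x ∈ C.Φ := by
  obtain ⟨t₁, ht₁, d₁, ⟨hd₁, hd₁0⟩, rfl⟩ := h₁
  obtain ⟨t₂, ht₂, d₂, ⟨hd₂, hd₂0⟩, he⟩ := h₂
  set s := t₂⁻¹ * t₁ with hs
  have hsT : s ∈ C.T := mul_mem (inv_mem ht₂) ht₁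
  have hsd : s * d₁ * s⁻¹ = d₂ := by
    calc s * d₁ * s⁻¹ = t₂⁻¹ * (t₁ * d₁ * t₁⁻¹) * t₂ := by rw [hs]; group
      _ = d₂ := by rw [he]; group
  have hmap : ∀ e, e ∈ G₁.L.D → s * e * s⁻¹ ∈ G₂.L.D := fun e he' => by
    refine G₂.L.cent hd₂ hd₂0 (mul_mem (mul_mem hsT (G₁.L.hDT he')) (inv_mem hsT)) ?_
    rw [← hsd]
    calc s * e * s⁻¹ * (s * d₁ * s⁻¹) = s * (e * d₁) * s⁻¹ := by group
      _ = s * (d₁ * e) * s⁻¹ := by rw [G₁.L.comm he' hd₁]
      _ = s * d₁ * s⁻¹ * (s * e * s⁻¹) := by group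
  have hinv : ∀ e, e ∈ G₂.L.D → s⁻¹ * e * s ∈ G₁.L.D := fun e he' => by
    refine G₁.L.cent hd₁ hd₁0 (mul_mem (mul_mem (inv_mem hsT) (G₂.L.hDT he')) hsT) ?_
    calc s⁻¹ * e * s * d₁ = s⁻¹ * (e * (s * d₁ * s⁻¹)) * s := by group
      _ = s⁻¹ * ((s * d₁ * s⁻¹) * e) * s := by rw [hsd, G₂.L.comm he' hd₂]
      _ = d₁ * (s⁻¹ * e * s) := by group
  have hgn : s * G₁.g * s⁻¹ ∈ normalizer (G₂.L.D : Set G) := mem_normalizer_of fun e he' => by
    have h := hmap _ (conj_mem G₁.hg (hinv e he'))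
    convert h using 1
    group
  have h := G₂.hcov _ hgn _ (hmap _ G₁.hd)
  have hconj : (s * G₁.d * s⁻¹)⁻¹ * (s * G₁.g * s⁻¹ * (s * G₁.d * s⁻¹) * (s * G₁.g * s⁻¹)⁻¹) =
      s * G₁.x * s⁻¹ := by rw [G₁.hx]; group
  rw [hconj] at h
  have hxT := G₁.L.hDT G₁.hxD
  have hcm : s * G₁.x * s⁻¹ * G₁.x⁻¹ ∈ C.Φ := C.comm_mem hsT hxT
  rcases h with h | h
  · refine absurd ?_ G₁.hxΦ
    have := mul_mem (inv_mem hcm) h
    simpa [mul_assoc] using this
  · have h2 : G₁.x⁻¹ * (s * G₁.x * s⁻¹) ∈ C.Φ := by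
      have := C.Φ_conj hcm (inv_mem hxT)
      simpa [mul_assoc] using this
    have := mul_mem h (inv_mem h2)
    simpa [mul_assoc] using this

/-- In a group generated by two involutions the essential subgroups have order at most four. -/
theorem not_two_gen (L : Loc C) (hbig : 8 ≤ Nat.card L.D) {a b : G} (haT : a ∈ C.T) (hbT : b ∈ C.T)
    (ha : a * a = 1) (hb : b * b = 1) (hgen : C.T ≤ closure ({a, b} : Set G)) : False := by
  classical
  set c := a * b with hc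
  have hai : a⁻¹ = a := inv_eq_of_mul_eq_one_right ha
  have hbi : b⁻¹ = b := inv_eq_of_mul_eq_one_right hb
  have hac : a * c * a⁻¹ = c⁻¹ := by
    rw [hc, mul_inv_rev, hai, hbi, ← mul_assoc, ha, one_mul]
  have hinvc : ∀ k : ℤ, a * c ^ k * a⁻¹ = (c ^ k)⁻¹ := fun k => by
    rw [← conj_zpow, hac, inv_zpow]
  have hn : zpowers a ≤ normalizer (zpowers c : Set G) := zpowers_le.2 (mem_normalizer_of fun e he => by
    obtain ⟨k, rfl⟩ := mem_zpowers_iff.1 he
    rw [hinvc k]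
    exact inv_mem (zpow_mem (mem_zpowers c) k))
  have hTset : ∀ t ∈ C.T, ∃ k : ℤ, t = c ^ k ∨ t = c ^ k * a := by
    intro t ht
    have hle : closure ({a, b} : Set G) ≤ zpowers c ⊔ zpowers a := by
      rw [closure_le]
      rintro y (rfl | rfl)
      · exact mem_sup_right (mem_zpowers _)
      · have : a * c ∈ zpowers c ⊔ zpowers a :=
          mul_mem (mem_sup_right (mem_zpowers a)) (mem_sup_left (mem_zpowers c))
        rwa [hc, ← mul_assoc, ha, one_mul] at this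
    have ht' : t ∈ ((zpowers c ⊔ zpowers a : Subgroup G) : Set G) := hle (hgen ht)
    rw [Subgroup.coe_mul_of_right_le_normalizer_left _ _ hn] at ht'
    obtain ⟨y, hy, e, he, hye⟩ := ht'
    obtain ⟨k, rfl⟩ := mem_zpowers_iff.1 hy
    obtain ⟨j, rfl⟩ := mem_zpowers_iff.1 he
    refine ⟨k, ?_⟩
    rw [← hye]
    rcases Int.even_or_odd' j with ⟨i, rfl | rfl⟩
    · left; show c ^ k * a ^ (2 * i) = c ^ k
      rw [zpow_mul, zpow_two, ha, one_zpow, mul_one]
    · right; show c ^ k * a ^ (2 * i + 1) = c ^ k * a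
      rw [zpow_add, zpow_mul, zpow_two, ha, one_zpow, one_mul, zpow_one]
  have hcT : c ∈ C.T := mul_mem haT hbT
  by_cases hall : L.D ≤ zpowers c
  · have hcD : c ∈ L.D := L.hcen c hcT fun d hd => by
      obtain ⟨k, rfl⟩ := mem_zpowers_iff.1 (hall hd)
      exact (Commute.zpow_left (Commute.refl c) k).eq
    have hD : L.D = zpowers c := le_antisymm hall (zpowers_le.2 hcD)
    refine L.P_ne (le_antisymm inf_le_left (le_inf le_rfl fun t ht => ?_))
    refine mem_normalizer_of fun e he => ?_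
    rw [hD] at he ⊢
    obtain ⟨k, rfl⟩ := mem_zpowers_iff.1 he
    obtain ⟨j, rfl | rfl⟩ := hTset t ht
    · rw [(Commute.zpow_zpow_self c j k).eq, mul_inv_cancel_right]
      exact zpow_mem (mem_zpowers c) k
    · rw [show c ^ j * a * c ^ k * (c ^ j * a)⁻¹ = c ^ j * (a * c ^ k * a⁻¹) * (c ^ j)⁻¹ by group,
        hinvc k]
      exact mul_mem (mul_mem (zpow_mem (mem_zpowers c) j) (inv_mem (zpow_mem (mem_zpowers c) k)))
        (inv_mem (zpow_mem (mem_zpowers c) j))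
  obtain ⟨d₀, hd₀, hd₀c⟩ := SetLike.not_le_iff_exists.1 hall
  obtain ⟨k₀, h0 | h0⟩ := hTset d₀ (L.hDT hd₀)
  · exact hd₀c (h0 ▸ zpow_mem (mem_zpowers c) k₀)
  subst h0
  set I := L.D ⊓ zpowers c with hI
  have hI2 : Nat.card I ≤ 2 := by
    haveI : IsCyclic I := isCyclic_of_injective (inclusion (show I ≤ zpowers c from inf_le_right))
      (inclusion_injective _)
    have hsq : ∀ e : I, e ^ 2 = 1 := by
      rintro ⟨e, he⟩
      obtain ⟨heD, hec⟩ := mem_inf.1 he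
      obtain ⟨k, rfl⟩ := mem_zpowers_iff.1 hec
      have h1 : c ^ k₀ * a * c ^ k * (c ^ k₀ * a)⁻¹ = c ^ k := by
        rw [L.comm hd₀ heD, mul_inv_cancel_right]
      rw [show c ^ k₀ * a * c ^ k * (c ^ k₀ * a)⁻¹ = c ^ k₀ * (a * c ^ k * a⁻¹) * (c ^ k₀)⁻¹ by group,
        hinvc k, ← zpow_neg, (Commute.zpow_zpow_self c k₀ (-k)).eq, mul_inv_cancel_right] at h1
      refine Subtype.ext ?_
      show (c ^ k) ^ 2 = 1
      rw [pow_two]
      nth_rewrite 1 [← h1]
      rw [← zpow_add, neg_add_cancel, zpow_zero]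
    haveI : Fintype I := Fintype.ofFinite _
    have := IsCyclic.card_pow_eq_one_le (α := I) two_pos
    rw [Finset.filter_true_of_mem (fun e _ => hsq e), Finset.card_univ] at this
    rwa [Nat.card_eq_fintype_card]
  have hmem : ∀ d : L.D, (d : G) ∉ zpowers c → (d : G) * (c ^ k₀ * a)⁻¹ ∈ I := by
    intro d hd
    refine mem_inf.2 ⟨mul_mem d.2 (inv_mem hd₀), ?_⟩
    obtain ⟨k, h | h⟩ := hTset d (L.hDT d.2)
    · exact absurd (h ▸ zpow_mem (mem_zpowers c) k) hd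
    · rw [h, show c ^ k * a * (c ^ k₀ * a)⁻¹ = c ^ k * (c ^ k₀)⁻¹ by group]
      exact mul_mem (zpow_mem (mem_zpowers c) k) (inv_mem (zpow_mem (mem_zpowers c) k₀))
  let f : L.D → I ⊕ I := fun d =>
    if h : (d : G) ∈ zpowers c then Sum.inl ⟨d, mem_inf.2 ⟨d.2, h⟩⟩
    else Sum.inr ⟨_, hmem d h⟩
  have hf : Function.Injective f := by
    intro x y hxy
    by_cases hx : (x : G) ∈ zpowers c <;> by_cases hy : (y : G) ∈ zpowers c <;>
      simp [f, hx, hy] at hxy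
    · exact hxy
    · exact hxy
  have := Nat.card_le_card_of_injective f hf
  rw [Nat.card_sum] at this
  omega

/-- The elements of `T` congruent to `u` modulo `Φ`. -/
def coset (C : Ctx G) (u : G) : Set G := {p | u⁻¹ * p ∈ C.Φ}

theorem card_coset (u : G) : Nat.card (coset C u) = Nat.card C.Φ :=
  Nat.card_congr ⟨fun p => ⟨u⁻¹ * p.1, p.2⟩,
    fun q => ⟨u * q.1, by show u⁻¹ * (u * q.1) ∈ C.Φ; rw [inv_mul_cancel_left]; exact q.2⟩,
    fun p => Subtype.ext (mul_inv_cancel_left _ _),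
    fun q => Subtype.ext (inv_mul_cancel_left _ _)⟩

theorem Gen.full (Ge : Gen C) (h16 : Nat.card C.Φ = 16) :
    (∀ φ ∈ C.Φ, Ge.x * φ ∈ Ge.A ∧ Ge.x * φ * (Ge.x * φ) = 1) ∧
      ∃ c ∈ Ge.L.D₀, c ∉ C.Φ ∧ ∀ φ ∈ C.Φ, Ge.x * c * φ ∈ Ge.A := by
  classical
  set L := Ge.L
  set D0 := L.D₀ with hD0
  set I := D0 ⊓ C.Φ with hI
  have hD0D : D0 ≤ L.D := inf_le_left
  have h0 := L.shape.h0
  have hP := L.shape.hP
  have hbig := Ge.hbig
  have hDc := L.card_D
  -- translates of `I`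
  have hkey : ∀ c ∈ D0, (Ge.L.conjSet ((fun e => Ge.x * c * e) '' (I : Set G)) ⊆
      coset C (Ge.x * c) ∧ 128 * Nat.card I ≤
        2 * Nat.card L.D * Nat.card (Ge.L.conjSet ((fun e => Ge.x * c * e) '' (I : Set G)))) ∧
      Ge.L.conjSet ((fun e => Ge.x * c * e) '' (I : Set G)) ⊆ Ge.A := by
    intro c hc
    have hmemS : ∀ d ∈ (fun e => Ge.x * c * e) '' (I : Set G), d ∈ L.D ∧ d ∉ D0 := by
      rintro _ ⟨e, he, rfl⟩
      refine ⟨mul_mem (mul_mem Ge.hxD (hD0D hc)) (hD0D he.1), fun h => Ge.hx0 ?_⟩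
      have := mul_mem h (inv_mem (mul_mem hc he.1))
      simpa [mul_assoc] using this
    refine ⟨⟨?_, ?_⟩, fun p ⟨t, ht, d, hd, hp⟩ => ⟨t, ht, d, hmemS d hd, hp⟩⟩
    · rintro _ ⟨t, ht, _, ⟨e, he, rfl⟩, rfl⟩
      show (Ge.x * c)⁻¹ * (t * (Ge.x * c * e) * t⁻¹) ∈ C.Φ
      have hxcT : Ge.x * c ∈ C.T := L.hDT (mul_mem Ge.hxD (hD0D hc))
      have heT : e ∈ C.T := C.Φ_le he.2
      have h1 := mul_mem (mul_mem (C.comm_mem (inv_mem hxcT) ht) he.2) (C.comm_mem (inv_mem heT) ht)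
      simp only [inv_inv] at h1
      convert h1 using 1
      group
    · have h := L.count _ hmemS
      rw [C.hcard, hP, show Nat.card ((fun e => Ge.x * c * e) '' (I : Set G) : Set G) = Nat.card I
        from Nat.card_image_of_injective (fun a b h => mul_left_cancel h) _] at h
      norm_num at h ⊢
      exact h
  have hsub : ∀ c ∈ D0, Nat.card (Ge.L.conjSet ((fun e => Ge.x * c * e) '' (I : Set G))) ≤ 16 :=
    fun c hc => (Nat.card_mono (Set.toFinite _) (hkey c hc).1.1).trans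
      ((card_coset _).trans h16).le
  -- `I` has index two in `D₀`
  have hupper : 4 * Nat.card I ≤ Nat.card L.D := by
    have h1 := (hkey 1 (one_mem _)).1.2
    have h2 := hsub 1 (one_mem _)
    nlinarith
  have hlower : Nat.card D0 ≤ 2 * Nat.card I := by
    by_contra! hlow
    have hprod := C.card_sup_mul (H := D0) (hD0D.trans L.hDT)
    rw [h16] at hprod
    have hne : L.D ⊔ C.Φ ≠ C.T := fun h => L.hne (C.nongen L.hDT h)
    have hle : L.D ⊔ C.Φ ≤ C.T := sup_le L.hDT C.Φ_le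
    have hlt := card_lt (lt_of_le_of_ne hle hne)
    rw [C.hcard] at hlt
    obtain ⟨i, hi⟩ := IsPGroup.iff_card.1 (C.hT.to_le hle)
    obtain ⟨j, hj⟩ := IsPGroup.iff_card.1 (C.hT.to_le
      (show D0 ⊔ C.Φ ≤ C.T from sup_le (hD0D.trans L.hDT) C.Φ_le))
    obtain ⟨l, hl⟩ := IsPGroup.iff_card.1 (C.hT.to_le (hD0D.trans L.hDT))
    obtain ⟨n, hn⟩ := IsPGroup.iff_card.1 (C.hT.to_le (show I ≤ C.T from inf_le_right.trans C.Φ_le))
    rw [hl, hn, ← pow_succ'] at hlow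
    have hln : n + 2 ≤ l := (Nat.pow_lt_pow_iff_right (by norm_num)).1 hlow
    change _ * Nat.card I = _ at hprod
    rw [hj, hn, hl, show (16 : ℕ) = 2 ^ 4 by norm_num, ← pow_add, ← pow_add] at hprod
    have hjn := Nat.pow_right_injective le_rfl hprod
    rw [hi] at hlt
    have hi6 : i ≤ 6 := Nat.lt_succ_iff.1 ((Nat.pow_lt_pow_iff_right (by norm_num)).1 hlt)
    have heq : D0 ⊔ C.Φ = L.D ⊔ C.Φ := eq_of_le_of_card_ge (sup_le_sup_right hD0D _) (by
      rw [hi, hj]; exact Nat.pow_le_pow_right (by norm_num) (by omega))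
    have hx' : Ge.x ∈ C.Φ ⊔ D0 := by
      rw [sup_comm, heq]; exact mem_sup_left Ge.hxD
    have hx : Ge.x ∈ ((C.Φ ⊔ D0 : Subgroup G) : Set G) := hx'
    rw [Subgroup.coe_mul_of_right_le_normalizer_left C.Φ D0 ?_] at hx
    · obtain ⟨φ, hφ, e, he, hef⟩ := hx
      have hef' : φ * e = Ge.x := hef
      have hφD : φ ∈ L.D := by
        have := mul_mem Ge.hxD (inv_mem (hD0D he))
        rwa [← hef', mul_inv_cancel_right] at this
      have hφ0 : φ ∉ D0 := fun h => Ge.hx0 (hef' ▸ mul_mem h he)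
      have hbigc := C.big_centralizer h16 hφ (D := L.D)
        (fun y hy hyq => L.cent hφD hφ0 hy hyq)
      have hprod2 := C.card_sup_mul (H := L.D) L.hDT
      rw [h16, hi] at hprod2
      have h64 : 2 ^ 6 ≤ 2 ^ i := by
        refine le_trans ?_ (hj ▸ hi ▸ card_le_of_le (sup_le_sup_right hD0D C.Φ))
        exact Nat.pow_le_pow_right (by norm_num) (by omega)
      norm_num at h64
      nlinarith
    · exact fun y hy => mem_normalizer_of fun e he => C.Φ_conj he (L.hDT (hD0D hy))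
  have hIc : Nat.card D0 = 2 * Nat.card I := by
    have h0' : Nat.card L.D = 2 * Nat.card D0 := h0
    omega
  -- the cosets are covered
  have hfull : ∀ c ∈ D0, ∀ φ ∈ C.Φ,
      Ge.x * c * φ ∈ Ge.L.conjSet ((fun e => Ge.x * c * e) '' (I : Set G)) := by
    intro c hc φ hφ
    have h1 := (hkey c hc).1.2
    have h2 := hsub c hc
    have h3 : Nat.card (coset C (Ge.x * c)) ≤
        Nat.card (Ge.L.conjSet ((fun e => Ge.x * c * e) '' (I : Set G))) := by
      rw [card_coset, h16]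
      nlinarith
    rw [Nat.card_coe_set_eq, Nat.card_coe_set_eq] at h3
    rw [Set.eq_of_subset_of_ncard_le (hkey c hc).1.1 h3 (Set.toFinite _)]
    show (Ge.x * c)⁻¹ * (Ge.x * c * φ) ∈ C.Φ
    rw [inv_mul_cancel_left]
    exact hφ
  refine ⟨fun φ hφ => ?_, ?_⟩
  · have h := hfull 1 (one_mem _) φ hφ
    rw [mul_one] at h
    refine ⟨(hkey 1 (one_mem _)).2 (by rw [mul_one]; exact h), ?_⟩
    obtain ⟨t, -, _, ⟨e, he, rfl⟩, hp⟩ := h
    have heD : e ∈ L.D := hD0D he.1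
    -- `I` has exponent two
    have hee : e * e = 1 := by
      by_contra hee
      obtain ⟨w₀, hw₀, hw₀Φ, hw₀1, hw₀2, hsq⟩ := Ge.hw
      have hle : zpowers e ⊔ zpowers w₀ ≤ I :=
        sup_le (zpowers_le.2 he) (zpowers_le.2 (mem_inf.2 ⟨hw₀, hw₀Φ⟩))
      have h4 : Nat.card I ≤ 4 := by nlinarith
      haveI : Fintype I := Fintype.ofFinite _
      let g : Fin 5 → I := ![⟨1, one_mem _⟩, ⟨e, he⟩, ⟨e * e, mul_mem he he⟩,
        ⟨w₀, mem_inf.2 ⟨hw₀, hw₀Φ⟩⟩, ⟨e * w₀, mul_mem he (mem_inf.2 ⟨hw₀, hw₀Φ⟩)⟩]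
      obtain ⟨i, j, hij, hg⟩ := Fintype.exists_ne_map_eq_of_card_lt g (by
        rw [Fintype.card_fin, ← Nat.card_eq_fintype_card]; omega)
      have hg' := congrArg Subtype.val hg
      have n1 : e ≠ 1 := fun h => hee (by rw [h, one_mul])
      have n2 : e * e ≠ e := fun h => n1 (by simpa using h)
      have n3 : e ≠ w₀ := fun h => hee (by rw [h, hw₀2])
      have n4 : e * e ≠ w₀ := hsq e heD
      have n5 : e * w₀ ≠ 1 := fun h => hee (by
        have : e = w₀ := by rw [eq_inv_of_mul_eq_one_left h, inv_eq_of_mul_eq_one_right hw₀2]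
        rw [this, hw₀2])
      have n6 : e * w₀ ≠ e := fun h => hw₀1 (by simpa using h)
      have n7 : e * w₀ ≠ w₀ := fun h => n1 (by simpa using h)
      have n8 : e * w₀ ≠ e * e := fun h => n3 (mul_left_cancel h).symm
      fin_cases i <;> fin_cases j <;>
        first
        | exact hij rfl
        | exact n1 hg' | exact n1 hg'.symm | exact n2 hg' | exact n2 hg'.symm
        | exact n3 hg' | exact n3 hg'.symm | exact n4 hg' | exact n4 hg'.symm
        | exact n5 hg' | exact n5 hg'.symm | exact n6 hg' | exact n6 hg'.symm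
        | exact n7 hg' | exact n7 hg'.symm | exact n8 hg' | exact n8 hg'.symm
        | exact hee hg' | exact hee hg'.symm | exact hw₀1 hg' | exact hw₀1 hg'.symm
    have hxe : Ge.x * e = e * Ge.x := L.comm Ge.hxD heD
    have hp' : Ge.x * φ = t * (Ge.x * e) * t⁻¹ := by simpa using hp
    rw [hp', show t * (Ge.x * e) * t⁻¹ * (t * (Ge.x * e) * t⁻¹) =
      t * (Ge.x * (e * Ge.x) * e) * t⁻¹ by group, ← hxe,
      show Ge.x * (Ge.x * e) * e = (Ge.x * Ge.x) * (e * e) by group, Ge.hxx, hee, one_mul, mul_one,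
      mul_inv_cancel]
  · have hlt : I < D0 := lt_of_le_of_ne inf_le_left fun h => by
      rw [h] at hIc
      have : 0 < Nat.card D0 := Nat.card_pos
      omega
    obtain ⟨c, hc, hcI⟩ := SetLike.exists_of_lt hlt
    exact ⟨c, hc, fun h => hcI (mem_inf.2 ⟨hc, h⟩), fun φ hφ => (hkey c hc).2 (hfull c hc φ hφ)⟩

end H70.Len8
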